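import Groth.Agent.Lead.DVR.Criteria
import Mathlib.AlgebraicGeometry.AffineSpace

/-! Universal closedness is tested on affine spaces over the base. -/

set_option autoImplicit false

universe u

open CategoryTheory CategoryTheory.Limits AlgebraicGeometry

namespace Groth.Agent.Lead.DVR

variable {X Y : Scheme.{u}} (f : X ⟶ Y)

set_option backward.isDefEq.respectTransparency.types false in
/-- closed after base change to finite algebras over affine opens implies universally closed -/
theorem universallyClosed_of_forall_affine [QuasiCompact f]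
    (h : ∀ {U : Y.Opens} (hU : IsAffineOpen U) (B : CommRingCat.{u}) (φ : Γ(Y, U) ⟶ B), φ.hom.FiniteType →
      IsClosedMap (pullback.snd f (Spec.map φ ≫ hU.fromSpec)).base) :
    UniversallyClosed f := by
  refine ⟨fun Z S' z g f' hsq => ?_⟩
  rw [← hsq.flip.isoPullback_hom_snd] 
  change topologically @IsClosedMap (hsq.flip.isoPullback.hom ≫ pullback.snd _ _)
  rw [MorphismProperty.cancel_left_of_respectsIso (topologically @IsClosedMap)]
  -- reduce to affine opens of the base change mapping into affine opens of the base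
  have hB : TopologicalSpace.Opens.IsBasis {W : S'.Opens | IsAffineOpen W ∧ ∃ U : Y.Opens, IsAffineOpen U ∧ W ≤ g ⁻¹ᵁ U} := by
    refine TopologicalSpace.Opens.isBasis_iff_nbhd.mpr fun {V s} hs => ?_
    obtain ⟨_, ⟨U, hU, rfl⟩, hsU, -⟩ :=
      Y.isBasis_affineOpens.exists_subset_of_mem_open (Set.mem_univ (g.base s)) isOpen_univ
    obtain ⟨W, hW, hsW, hWle⟩ := TopologicalSpace.Opens.isBasis_iff_nbhd.mp S'.isBasis_affineOpens
      (U := V ⊓ g ⁻¹ᵁ U) (x := s) ⟨hs, hsU⟩
    exact ⟨W, ⟨hW, U, hU, hWle.trans inf_le_right⟩, hsW, hWle.trans inf_le_left⟩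
  have htop : ⨆ W : {W : S'.Opens | IsAffineOpen W ∧ ∃ U : Y.Opens, IsAffineOpen U ∧ W ≤ g ⁻¹ᵁ U}, W.1 = ⊤ :=
    top_unique fun s _ => by
      obtain ⟨W, hW, hsW, -⟩ := TopologicalSpace.Opens.isBasis_iff_nbhd.mp hB (U := ⊤) (x := s) trivial
      exact TopologicalSpace.Opens.mem_iSup.mpr ⟨⟨W, hW⟩, hsW⟩
  rw [IsZariskiLocalAtTarget.iff_of_iSup_eq_top (P := topologically @IsClosedMap) (fun W : {W : S'.Opens | IsAffineOpen W ∧ ∃ U : Y.Opens, IsAffineOpen U ∧ W ≤ g ⁻¹ᵁ U} => W.1) htop]
  rintro ⟨W, hW, U, hU, hWU⟩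
  -- the ring map
  let φ := g.appLE U W hWU
  letI : Algebra Γ(Y, U) Γ(S', W) := φ.hom.toAlgebra
  let str := ConsPair.SubalgLimit.str Γ(Y, U) Γ(S', W)
  let D := ConsPair.SubalgLimit.specDiag Γ(Y, U) Γ(S', W)
  let c := ConsPair.SubalgLimit.specCone Γ(Y, U) Γ(S', W)
  obtain ⟨a⟩ := IsCofiltered.nonempty (C := (ConsPair.SubalgLimit.FGSub Γ(Y, U) Γ(S', W))ᵒᵖ)
  let t : pullback f (str a ≫ hU.fromSpec) ⟶ D.obj a := pullback.snd _ _
  haveI : QuasiCompact t := MorphismProperty.pullback_snd _ _ inferInstance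
  have hclosed : IsClosedMap (pullback.fst (c.π.app a) t).base := by
    refine isClosedMap_fst_limit D c (ConsPair.SubalgLimit.isLimit _ _) t fun b => ?_
    have hp : IsPullback (pullback.fst (D.map b.hom) t) (pullback.snd (D.map b.hom) t ≫ pullback.fst _ _)
        (str b.left ≫ hU.fromSpec) f := by
      refine IsPullback.paste_vert (IsPullback.of_hasPullback (D.map b.hom) t)
        (IsPullback.of_hasPullback f (str a ≫ hU.fromSpec)).flip |> fun p => ?_
      rwa [reassoc_of% (ConsPair.SubalgLimit.map_str Γ(Y, U) Γ(S', W) b.hom)] at p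
    rw [← hp.flip.isoPullback_hom_snd]
    change topologically @IsClosedMap (hp.flip.isoPullback.hom ≫ pullback.snd _ _)
    rw [MorphismProperty.cancel_left_of_respectsIso (topologically @IsClosedMap)]
    refine h hU _ _ ?_
    show (algebraMap Γ(Y, U) b.left.unop.1).FiniteType
    exact RingHom.finiteType_algebraMap.mpr ((Subalgebra.fg_iff_finiteType _).1 b.left.unop.2)
  have hcone : c.π.app a ≫ str a ≫ hU.fromSpec = hW.fromSpec ≫ g := by
    rw [reassoc_of% (ConsPair.SubalgLimit.π_str Γ(Y, U) Γ(S', W) a)]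
    exact hU.SpecMap_appLE_fromSpec g hW hWU
  have hp : IsPullback (pullback.snd (c.π.app a) t ≫ pullback.fst _ _) (pullback.fst (c.π.app a) t)
      f (hW.fromSpec ≫ g) := by
    refine IsPullback.paste_vert (IsPullback.of_hasPullback (c.π.app a) t)
      (IsPullback.of_hasPullback f (str a ≫ hU.fromSpec)).flip |> fun p => ?_
    rw [hcone] at p
    exact p.flip
  have hp' : IsPullback ((pullback.snd f g ⁻¹ᵁ W).ι ≫ pullback.fst f g) (pullback.snd f g ∣_ W) f (W.ι ≫ g) :=
    (isPullback_morphismRestrict (pullback.snd f g) W).flip.paste_horiz (IsPullback.of_hasPullback f g)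
  have hp'' : IsPullback ((pullback.snd f g ⁻¹ᵁ W).ι ≫ pullback.fst f g) ((pullback.snd f g ∣_ W) ≫ hW.isoSpec.hom)
      f (hW.fromSpec ≫ g) :=
    IsPullback.of_iso hp' (Iso.refl _) (Iso.refl _) hW.isoSpec (Iso.refl _) (by simp) (by simp) (by simp)
      (by rw [IsAffineOpen.fromSpec, ← Category.assoc, ← Category.assoc, Iso.hom_inv_id, Category.id_comp, Iso.refl_hom, Category.comp_id])
  show topologically @IsClosedMap (pullback.snd f g ∣_ W)
  rw [← MorphismProperty.cancel_right_of_respectsIso (topologically @IsClosedMap) _ hW.isoSpec.hom,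
    ← hp''.isoPullback_hom_snd, MorphismProperty.cancel_left_of_respectsIso (topologically @IsClosedMap)]
  have := hclosed
  change topologically @IsClosedMap (pullback.fst (c.π.app a) t) at this
  rw [← hp.isoPullback_hom_snd, MorphismProperty.cancel_left_of_respectsIso (topologically @IsClosedMap)] at this
  exact this

theorem isClosedMap_snd_comp {A B : Scheme.{u}} (g : A ⟶ Y) (h : B ⟶ A) [IsPreimmersion h]
    (H : IsClosedMap (pullback.snd f g).base) : IsClosedMap (pullback.snd f (h ≫ g)).base := by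
  let h' : pullback f (h ≫ g) ⟶ pullback f g := pullback.map f (h ≫ g) f g (𝟙 X) h (𝟙 Y) (by simp) (by simp)
  have hsq : IsPullback h' (pullback.snd f (h ≫ g)) (pullback.snd f g) h := by
    refine IsPullback.of_right ?_ (pullback.lift_snd _ _ _) (IsPullback.of_hasPullback f g)
    rw [show h' ≫ pullback.fst f g = pullback.fst f (h ≫ g) from (pullback.lift_fst _ _ _).trans (Category.comp_id _)]
    exact IsPullback.of_hasPullback f (h ≫ g)
  haveI : IsPreimmersion h' := MorphismProperty.of_isPullback (P := @IsPreimmersion) hsq.flip inferInstance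
  intro C hC
  obtain ⟨D, hD, rfl⟩ := h'.isEmbedding.isInducing.isClosed_iff.mp hC
  rw [Scheme.image_preimage_eq_of_isPullback hsq]
  exact (H D hD).preimage h.continuous

open MvPolynomial in
theorem universallyClosed_of_affineSpace [QuasiCompact f]
    (h : ∀ n : ℕ, IsClosedMap (pullback.snd f (𝔸(ULift.{u} (Fin n); Y) ↘ Y)).base) : UniversallyClosed f := by
  refine universallyClosed_of_forall_affine f fun {U} hU B φ hφ => ?_
  letI := φ.hom.toAlgebra
  obtain ⟨n, p, hp⟩ := Algebra.FiniteType.iff_quotient_mvPolynomial''.mp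
    (RingHom.finiteType_algebraMap.mp hφ : Algebra.FiniteType Γ(Y, U) B)
  let p' := p.comp (rename ULift.down : MvPolynomial (ULift.{u} (Fin n)) Γ(Y, U) →ₐ[Γ(Y, U)] _)
  have hp' : Function.Surjective p' :=
    hp.comp (rename_surjective _ fun i => ⟨⟨i⟩, rfl⟩)
  let ψ : CommRingCat.of (MvPolynomial (ULift.{u} (Fin n)) Γ(Y, U)) ⟶ B := CommRingCat.ofHom p'.toRingHom
  haveI : IsClosedImmersion (Spec.map ψ) := IsClosedImmersion.spec_of_surjective ψ hp'
  haveI : IsOpenImmersion (AffineSpace.map (ULift.{u} (Fin n)) hU.fromSpec) :=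
    MorphismProperty.of_isPullback (P := @IsOpenImmersion) (AffineSpace.isPullback_map hU.fromSpec).flip inferInstance
  let k := Spec.map ψ ≫ (AffineSpace.SpecIso (ULift.{u} (Fin n)) Γ(Y, U)).inv ≫ AffineSpace.map _ hU.fromSpec
  have hk : k ≫ 𝔸(ULift.{u} (Fin n); Y) ↘ Y = Spec.map φ ≫ hU.fromSpec := by
    simp only [k, Category.assoc, AffineSpace.map_over]
    rw [reassoc_of% AffineSpace.SpecIso_inv_over, ← Spec.map_comp_assoc]
    congr 2
    exact CommRingCat.hom_ext (RingHom.ext fun a => p'.commutes a)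
  rw [← hk]
  exact isClosedMap_snd_comp f _ k (h n)

end Groth.Agent.Lead.DVR
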