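import Groth.Agent.Lead.DVR.Criteria

/-! Valuative criterion tested on discrete valuation rings of the residue fields of chosen points. -/

set_option autoImplicit false
set_option backward.isDefEq.respectTransparency false

universe u

open CategoryTheory CategoryTheory.Limits AlgebraicGeometry

namespace Groth.Agent.Lead.DVR

/-- the chart form of a morphism from the spectrum of a ring -/
theorem chart_ext {X : Scheme.{u}} {V : X.Opens} (hV : IsAffineOpen V) {A : CommRingCat.{u}} {a b : Γ(X, V) ⟶ A}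
    (h : Spec.map a ≫ hV.fromSpec = Spec.map b ≫ hV.fromSpec) : a = b :=
  Spec.map_injective ((cancel_mono hV.fromSpec).mp h)

theorem exists_chart {X : Scheme.{u}} {V : X.Opens} (hV : IsAffineOpen V) {A : CommRingCat.{u}} (l : Spec A ⟶ X)
    (h : Set.range l ⊆ (V : Set X)) : ∃ a : Γ(X, V) ⟶ A, Spec.map a ≫ hV.fromSpec = l :=
  ⟨Spec.preimage (IsOpenImmersion.lift hV.fromSpec l (by rwa [hV.range_fromSpec])),
    by rw [Spec.map_preimage, IsOpenImmersion.lift_fac]⟩

theorem range_subset_of_closedPoint {X : Scheme.{u}} {V : X.Opens} {A : Type u} [CommRing A] [IsLocalRing A]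
    (l : Spec (CommRingCat.of A) ⟶ X) (h : l (IsLocalRing.closedPoint A) ∈ V) : Set.range l ⊆ (V : Set X) := by
  rintro _ ⟨p, rfl⟩
  exact ((IsLocalRing.specializes_closedPoint p).map l.continuous).mem_open V.isOpen h

/-- the residue field at a point seen from a chart -/
noncomputable def toRes {X : Scheme.{u}} {V : X.Opens} {η : X} (h : η ∈ V) : Γ(X, V) ⟶ X.residueField η :=
  X.presheaf.germ V η h ≫ X.residue η

theorem SpecMap_toRes {X : Scheme.{u}} {V : X.Opens} (hV : IsAffineOpen V) {η : X} (h : η ∈ V) :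
    Spec.map (toRes h) ≫ hV.fromSpec = X.fromSpecResidueField η := by
  rw [toRes, Spec.map_comp, Category.assoc, Scheme.fromSpecResidueField, ← hV.fromSpecStalk_eq_fromSpecStalk h]
  rfl

variable {X S : Scheme.{u}} (f : X ⟶ S)

/-- the existence part of the criterion for the discrete valuation rings of one residue field -/
def Good (η : X) : Prop :=
  ∀ (A : ValuationSubring (X.residueField η)), IsDiscreteValuationRing A →
    ∀ y : Spec (CommRingCat.of A) ⟶ S,
      Spec.map (CommRingCat.ofHom A.subtype) ≫ y = X.fromSpecResidueField η ≫ f →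
      ∃ l : Spec (CommRingCat.of A) ⟶ X, l ≫ f = y ∧
        Spec.map (CommRingCat.ofHom A.subtype) ≫ l = X.fromSpecResidueField η

theorem exists_chart_subset [IsLocallyNoetherian S] [LocallyOfFiniteType f] [QuasiCompact f] {η : X}
    (hgood : Good f η) {U : S.Opens} (hU : IsAffineOpen U) (hηU : f η ∈ U) (C : ValuationSubring (X.residueField η))
    (hC : ∀ a, toRes (V := f ⁻¹ᵁ U) hηU (f.app U a) ∈ C) :
    ∃ (V : X.Opens) (_ : IsAffineOpen V) (_ : V ≤ f ⁻¹ᵁ U) (hη : η ∈ V), ∀ b, toRes hη b ∈ C := by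
  classical
  by_contra! hno
  obtain ⟨s, hs, hcov⟩ := isCompact_iff_finite_and_eq_biUnion_affineOpens.mp (f.isCompact_preimage hU.isCompact)
  have hle : ∀ V ∈ s, (V : X.Opens) ≤ f ⁻¹ᵁ U := fun V hV => hcov ▸ le_biSup (fun V : X.affineOpens => (V : X.Opens)) hV
  have hmem : ∀ x, x ∈ f ⁻¹ᵁ U → ∃ V ∈ s, x ∈ (V : X.Opens) := fun x hx => by
    rw [hcov] at hx
    simpa [TopologicalSpace.Opens.mem_iSup] using hx
  have key : ∀ (V : X.affineOpens), ∃ b : X.residueField η, V ∈ s → ∀ h : η ∈ (V : X.Opens), b ∉ C ∧ ∃ c, toRes h c = b := by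
    intro V
    by_cases h : V ∈ s ∧ η ∈ (V : X.Opens)
    · obtain ⟨c, hc⟩ := hno V V.2 (hle V h.1) h.2
      exact ⟨_, fun _ _ => ⟨hc, c, rfl⟩⟩
    · exact ⟨0, fun h1 h2 => absurd ⟨h1, h2⟩ h⟩
  choose b hb using key
  let T : Finset (X.residueField η) := (hs.toFinset.filter fun V => η ∈ V.1).image fun V => (b V)⁻¹
  let ρ := f.app U ≫ toRes (V := f ⁻¹ᵁ U) hηU
  letI := ρ.hom.toAlgebra
  haveI : IsNoetherianRing Γ(S, U) := IsLocallyNoetherian.component_noetherian ⟨U, hU⟩
  let B : Subalgebra Γ(S, U) (X.residueField η) := Algebra.adjoin _ (T : Set (X.residueField η))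
  have hTC : ∀ t ∈ T, t ∈ C ∧ t⁻¹ ∉ C := fun t ht => by
    obtain ⟨V, hV, rfl⟩ := Finset.mem_image.mp ht
    obtain ⟨hVs, hVη⟩ := Finset.mem_filter.mp hV
    have hbV := (hb V (hs.mem_toFinset.mp hVs) hVη).1
    exact ⟨(C.mem_or_inv_mem (b V)).resolve_left hbV, by rwa [inv_inv]⟩
  have hBC : ∀ z : B, (z : X.residueField η) ∈ C := by
    rintro ⟨z, hz⟩
    induction hz using Algebra.adjoin_induction with
    | mem z hz => exact (hTC z hz).1
    | algebraMap r => exact hC r
    | add a b _ _ ha hb => exact add_mem ha hb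
    | mul a b _ _ ha hb => exact mul_mem ha hb
  obtain ⟨V₀, hV₀s, hηV₀⟩ := hmem η hηU
  haveI : IsNoetherianRing B := isNoetherianRing_of_fg (Subalgebra.fg_def.mpr ⟨_, T.finite_toSet, rfl⟩)
  let φ : B →+* C := B.val.toRingHom.codRestrict C.toSubring hBC
  let P : Ideal B := (IsLocalRing.maximalIdeal C).comap φ
  haveI : P.IsPrime := Ideal.comap_isPrime φ _
  have hTP : ∀ t (ht : t ∈ T), (⟨t, Algebra.subset_adjoin ht⟩ : B) ∈ P := fun t ht => by
    refine (IsLocalRing.mem_maximalIdeal _).mpr fun h => (hTC t ht).2 ?_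
    obtain ⟨w, hw⟩ := h.exists_right_inv
    have : t * (w : X.residueField η) = 1 := congrArg Subtype.val hw
    rw [inv_eq_of_mul_eq_one_right this]
    exact w.2
  let A := Localization.AtPrime P
  haveI : IsNoetherianRing A := IsLocalization.isNoetherianRing P.primeCompl A inferInstance
  have hu : ∀ y : P.primeCompl, IsUnit (B.val.toRingHom y) := fun y =>
    isUnit_iff_ne_zero.mpr fun e => y.2 (by rw [show (y : B) = 0 from Subtype.ext e]; exact P.zero_mem)
  let ι : A →+* X.residueField η := IsLocalization.lift hu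
  have hι : Function.Injective ι := by
    rw [IsLocalization.lift_injective_iff]
    intro a b
    constructor
    · intro h; rw [IsLocalization.injective A P.primeCompl_le_nonZeroDivisors h]
    · intro h; rw [show a = b from Subtype.ext h]
  have hιB : ∀ x : B, ι (algebraMap B A x) = x := IsLocalization.lift_eq hu
  have hA : ¬ IsField A := fun hf => by
    have ht : (b V₀)⁻¹ ∈ T := Finset.mem_image.mpr ⟨V₀, Finset.mem_filter.mpr ⟨hs.mem_toFinset.mpr hV₀s, hηV₀⟩, rfl⟩
    have h : algebraMap B A ⟨_, Algebra.subset_adjoin ht⟩ ∈ IsLocalRing.maximalIdeal A :=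
      (IsLocalRing.mem_maximalIdeal _).mpr fun h =>
        ((IsLocalization.AtPrime.isUnit_to_map_iff A P _).mp h) (hTP _ ht)
    rw [IsLocalRing.isField_iff_maximalIdeal_eq.mp hf, Ideal.mem_bot] at h
    have h0 := congrArg ι h
    rw [hιB, map_zero] at h0
    exact (hTC _ ht).2 (by rw [show (b V₀)⁻¹ = 0 from h0, inv_zero]; exact C.zero_mem)
  -- generators of the residue field
  letI := (f.appLE U V₀ (hle V₀ hV₀s)).hom.toAlgebra
  haveI : Algebra.FiniteType Γ(S, U) Γ(X, (V₀ : X.Opens)) :=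
    RingHom.finiteType_algebraMap.mp (HasRingHomProperty.appLE @LocallyOfFiniteType f inferInstance ⟨U, hU⟩ V₀ (hle V₀ hV₀s))
  obtain ⟨g, hg⟩ := (‹Algebra.FiniteType Γ(S, U) Γ(X, (V₀ : X.Opens))›).out
  have hρ : ∀ a, toRes hηV₀ (f.appLE U V₀ (hle V₀ hV₀s) a) = ρ a := fun a => by
    have : f.appLE U V₀ (hle V₀ hV₀s) ≫ toRes hηV₀ = ρ := by
      simp only [ρ, toRes, Scheme.Hom.appLE, Category.assoc]
      rw [X.presheaf.germ_res_assoc]
    exact ConcreteCategory.congr_hom this a
  letI := ι.toAlgebra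
  have htop : Subfield.closure (Set.range (algebraMap A (X.residueField η)) ∪ ↑(g.image (toRes hηV₀))) = ⊤ := by
    set F := Subfield.closure (Set.range (algebraMap A (X.residueField η)) ∪ ↑(g.image (toRes hηV₀))) with hF
    have hR : ∀ a, ρ a ∈ F := fun a =>
      Subfield.subset_closure (Or.inl ⟨algebraMap B A (algebraMap Γ(S, U) B a), hιB _⟩)
    have hV : ∀ c, toRes hηV₀ c ∈ F := fun c => by
      have hc : c ∈ Algebra.adjoin Γ(S, U) (g : Set Γ(X, (V₀ : X.Opens))) := by rw [hg]; trivial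
      induction hc using Algebra.adjoin_induction with
      | mem z hz => exact Subfield.subset_closure (Or.inr (Finset.mem_image_of_mem _ hz))
      | algebraMap r => exact hρ r ▸ hR r
      | add a b _ _ ha hb => rw [map_add]; exact add_mem ha hb
      | mul a b _ _ ha hb => rw [map_mul]; exact mul_mem ha hb
    refine eq_top_iff.mpr fun z _ => ?_
    obtain ⟨w, rfl⟩ := X.residue_surjective η z
    letI := X.presheaf.algebra_section_stalk (⟨η, hηV₀⟩ : (V₀ : X.Opens))
    haveI := V₀.2.isLocalization_stalk ⟨η, hηV₀⟩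
    obtain ⟨⟨a, c⟩, hac⟩ := IsLocalization.surj (V₀.2.primeIdealOf ⟨η, hηV₀⟩).asIdeal.primeCompl w
    have e : w * X.presheaf.germ V₀ η hηV₀ c.1 = X.presheaf.germ V₀ η hηV₀ a := hac
    have hc : IsUnit (X.presheaf.germ V₀ η hηV₀ c.1) := IsLocalization.map_units (X.presheaf.stalk η) c
    have h0 := (hc.map (X.residue η).hom).ne_zero
    have h1 : X.residue η w = toRes hηV₀ a / toRes hηV₀ c.1 := by
      rw [eq_div_iff (show toRes hηV₀ c.1 ≠ 0 from h0), toRes, ConcreteCategory.comp_apply, ConcreteCategory.comp_apply, ← map_mul, e]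
    rw [h1]
    exact div_mem (hV a) (hV _)
  obtain ⟨O, hO, hAO, hmO⟩ := exists_dvr A (X.residueField η) hA hι _ htop
  have hρO : ∀ a, ρ.hom a ∈ O.toSubring := fun a => by
    show ρ a ∈ O
    have := hAO (algebraMap B A (algebraMap Γ(S, U) B a))
    rwa [show algebraMap A (X.residueField η) (algebraMap B A (algebraMap Γ(S, U) B a)) = ρ a from hιB _] at this
  let ψ : Γ(S, U) ⟶ CommRingCat.of O := CommRingCat.ofHom (ρ.hom.codRestrict O.toSubring hρO)
  have hψ : ψ ≫ CommRingCat.ofHom O.subtype = ρ := rfl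
  obtain ⟨l, hl, hl'⟩ := hgood O hO (Spec.map ψ ≫ hU.fromSpec) (by
    rw [← Spec.map_comp_assoc, hψ, ← SpecMap_toRes V₀.2 hηV₀, Category.assoc,
      ← hU.SpecMap_appLE_fromSpec f V₀.2 (hle V₀ hV₀s), ← Spec.map_comp_assoc]
    congr 2
    exact CommRingCat.hom_ext (RingHom.ext fun a => (hρ a).symm))
  have hxU : l (IsLocalRing.closedPoint O) ∈ f ⁻¹ᵁ U := by
    show (l ≫ f) (IsLocalRing.closedPoint O) ∈ U
    rw [hl, Scheme.Hom.comp_apply]
    exact hU.range_fromSpec.le ⟨_, rfl⟩
  obtain ⟨V, hVs, hxV⟩ := hmem _ hxU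
  have hηV : η ∈ (V : X.Opens) := by
    have h : X.fromSpecResidueField η (IsLocalRing.closedPoint (X.residueField η)) ∈ (V : X.Opens) := by
      rw [← hl', Scheme.Hom.comp_apply]
      exact range_subset_of_closedPoint l hxV ⟨_, rfl⟩
    rwa [Scheme.fromSpecResidueField_apply] at h
  obtain ⟨a, ha⟩ := exists_chart V.2 l (range_subset_of_closedPoint l hxV)
  have ha' : a ≫ CommRingCat.ofHom O.subtype = toRes hηV := chart_ext V.2 (by
    rw [Spec.map_comp, Category.assoc, ha, hl', SpecMap_toRes])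
  obtain ⟨hbC, c, hc⟩ := hb V hVs hηV
  have hcO : (a c : X.residueField η) = b V := (ConcreteCategory.congr_hom ha' c).trans hc
  have ht : (b V)⁻¹ ∈ T := Finset.mem_image.mpr ⟨V, Finset.mem_filter.mpr ⟨hs.mem_toFinset.mpr hVs, hηV⟩, rfl⟩
  have hval : O.valuation (b V)⁻¹ < 1 := by
    have := hmO (algebraMap B A ⟨_, Algebra.subset_adjoin ht⟩) ((IsLocalRing.mem_maximalIdeal _).mpr fun h =>
      ((IsLocalization.AtPrime.isUnit_to_map_iff A P _).mp h) (hTP _ ht))
    rwa [show algebraMap A (X.residueField η) (algebraMap B A ⟨_, Algebra.subset_adjoin ht⟩) = (b V)⁻¹ from hιB _] at this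
  have hbO : O.valuation (b V) ≤ 1 := by rw [O.valuation_le_one_iff, ← hcO]; exact (a c).2
  have hb0 : b V ≠ 0 := fun e => hbC (e ▸ C.zero_mem)
  have h1 : O.valuation (b V) * O.valuation (b V)⁻¹ < 1 := lt_of_le_of_lt (mul_le_of_le_one_left zero_le' hbO) hval
  rw [← map_mul, mul_inv_cancel₀ hb0, map_one] at h1
  exact lt_irrefl _ h1

end Groth.Agent.Lead.DVR
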