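import Groth.Agent.Lim.Topo
import Mathlib.AlgebraicGeometry.Fiber

/-! A base change to a limit of a quasi-compact morphism is closed if all the base changes to the stages are. -/

set_option autoImplicit false

universe u

open CategoryTheory CategoryTheory.Limits AlgebraicGeometry TopologicalSpace

namespace Groth.Agent.Lead.DVR

variable {I : Type u} [Category.{u} I] [IsCofiltered I] (D : I ⥤ Scheme.{u}) (c : Cone D)
  (hc : IsLimit c) [∀ {i j : I} (f : i ⟶ j), IsAffineHom (D.map f)]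

include hc in
set_option backward.defeqAttrib.useBackward true in
set_option backward.isDefEq.respectTransparency false in
theorem isClosedMap_fst_limit {i : I} {T : Scheme.{u}} (t : T ⟶ D.obj i) [QuasiCompact t]
    (h : ∀ (a : Over i), IsClosedMap (pullback.fst (D.map a.hom) t).base) :
    IsClosedMap (pullback.fst (c.π.app i) t).base := by
  classical
  intro C hC
  rw [← isOpen_compl_iff, isOpen_iff_forall_mem_open]
  intro p hp
  have haff : ∀ {a b : Over i} (f : a ⟶ b), IsAffineHom ((Lim.Topo.bcDiagram D t).map f) :=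
    fun f => Lim.Topo.isAffineHom_bcDiagram_map D t f
  haveI : QuasiCompact (pullback.fst (c.π.app i) t) := MorphismProperty.pullback_fst _ _ inferInstance
  have hb := isBasis_preimage_isAffineOpen (Lim.Topo.bcDiagram D t) (Lim.Topo.bcCone D c t)
    (Lim.Topo.isLimitBcCone D c hc t)
  let π : ∀ a : Over i, pullback (c.π.app i) t ⟶ pullback (D.map a.hom) t := fun a => (Lim.Topo.bcCone D c t).π.app a
  have hπ : ∀ {a b : Over i} (f : a ⟶ b), π a ≫ (Lim.Topo.bcDiagram D t).map f = π b := fun f => (Lim.Topo.bcCone D c t).w f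
  have happ : ∀ {a b : Over i} (f : a ⟶ b) (z : ↥(pullback (c.π.app i) t)),
      (Lim.Topo.bcDiagram D t).map f (π a z) = π b z := fun f z => by rw [← hπ f]; rfl
  have key : ∀ q : ↥(pullback.fst (c.π.app i) t ⁻¹' {p}), ∃ (a : Over i) (V : (pullback (D.map a.hom) t).Opens),
      π a q.1 ∈ V ∧ ∀ z, π a z ∈ V → z ∉ C := fun q => by
    obtain ⟨W, ⟨a, V, -, rfl⟩, hqW, hW⟩ := Opens.isBasis_iff_nbhd.mp hb (U := ⟨Cᶜ, hC.isOpen_compl⟩) (x := q.1)
      (fun h => hp ⟨q.1, h, q.2⟩)
    exact ⟨a, V, hqW, fun z hz => hW hz⟩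
  choose a V hqV hV using key
  obtain ⟨s, hs⟩ := (QuasiCompact.isCompact_preimage_singleton (pullback.fst (c.π.app i) t) p).elim_finite_subcover
    (fun q : ↥(pullback.fst (c.π.app i) t ⁻¹' {p}) => (π (a q) ⁻¹' SetLike.coe (V q)))
    (fun q => (V q).isOpen.preimage (π (a q)).continuous) (fun q hq => Set.mem_iUnion.mpr ⟨⟨q, hq⟩, hqV ⟨q, hq⟩⟩)
  obtain ⟨b, hb'⟩ := IsCofiltered.inf_objs_exists (s.image a)
  have hb2 : ∀ q ∈ s, Nonempty (b ⟶ a q) := fun q hq => ⟨(hb' (Finset.mem_image_of_mem a hq)).some⟩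
  let W : Set ↥(pullback (D.map b.hom) t) :=
    ⋃ q : s, (Lim.Topo.bcDiagram D t).map (hb2 q.1 q.2).some ⁻¹' SetLike.coe (V q.1)
  have hW : IsOpen W := isOpen_iUnion fun q => (V q.1).isOpen.preimage (Scheme.Hom.continuous _)
  have hWC : ∀ z, π b z ∈ W → z ∉ C := fun z hz => by
    obtain ⟨q, hq⟩ := Set.mem_iUnion.mp hz
    refine hV q.1 z ?_
    rw [← happ (hb2 q.1 q.2).some z]
    exact hq
  have hsq : IsPullback (π b) (pullback.fst (c.π.app i) t) (pullback.fst (D.map b.hom) t) (c.π.app b.left) := by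
    refine IsPullback.of_right ?_ ?_ (IsPullback.of_hasPullback (D.map b.hom) t).flip
    · convert! (IsPullback.of_hasPullback (c.π.app i) t).flip using 1
      · simp [π, Lim.Topo.bcCone]
      · simp
    · simp [π, Lim.Topo.bcCone]
  have hfib : ∀ z : ↥(pullback (D.map b.hom) t), pullback.fst (D.map b.hom) t z = c.π.app b.left p → z ∈ W := by
    intro z hz
    obtain ⟨q, hqz, hqp⟩ := Scheme.exists_preimage_of_isPullback hsq z p hz
    obtain ⟨r, hr⟩ := Set.mem_iUnion.mp (hs (show q ∈ pullback.fst (c.π.app i) t ⁻¹' {p} from hqp))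
    obtain ⟨hrs, hr⟩ := Set.mem_iUnion.mp hr
    refine Set.mem_iUnion.mpr ⟨⟨r, hrs⟩, ?_⟩
    show _ ∈ V r
    rw [← hqz, show (Lim.Topo.bcDiagram D t).map _ (π b q) = π (a r) q from happ _ q]
    exact hr
  have hop := (h b Wᶜ hW.isClosed_compl).isOpen_compl
  refine ⟨c.π.app b.left ⁻¹' (pullback.fst (D.map b.hom) t '' Wᶜ)ᶜ, ?_, hop.preimage (Scheme.Hom.continuous _), ?_⟩
  · rintro x hx ⟨z, hz, rfl⟩
    refine hx ⟨π b z, fun hw => hWC z hw hz, ?_⟩
    show (π b ≫ pullback.fst (D.map b.hom) t) z = (pullback.fst (c.π.app i) t ≫ c.π.app b.left) z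
    exact congrArg (fun ψ : pullback (c.π.app i) t ⟶ D.obj b.left => ψ z) hsq.w
  · rintro ⟨z, hz, hzp⟩
    exact hz (hfib z hzp)

end Groth.Agent.Lead.DVR
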