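import Groth.Agent.Lead.DVR.Point
import Groth.Agent.Lead.DVR.ClosedLimit
import Groth.Agent.ConsPair.SubalgLimit

/-! Valuative criteria over locally Noetherian bases, tested on discrete valuation rings. -/

set_option autoImplicit false

universe u

open CategoryTheory CategoryTheory.Limits AlgebraicGeometry

namespace Groth.Agent.Lead.DVR

variable {X Y : Scheme.{u}} (f : X ⟶ Y)

/-- the existence part of the valuative criterion for discrete valuation rings -/
def DvrExist : Prop :=
  ∀ (A : Type u) [CommRing A] [IsDomain A] [IsDiscreteValuationRing A]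
    (x : Spec (CommRingCat.of (FractionRing A)) ⟶ X) (y : Spec (CommRingCat.of A) ⟶ Y),
    x ≫ f = Spec.map (CommRingCat.ofHom (algebraMap A (FractionRing A))) ≫ y →
      ∃ l : Spec (CommRingCat.of A) ⟶ X, l ≫ f = y ∧
        Spec.map (CommRingCat.ofHom (algebraMap A (FractionRing A))) ≫ l = x

theorem DvrExist.pullback_snd (hf : DvrExist f) {S' : Scheme.{u}} (g : S' ⟶ Y) :
    DvrExist (pullback.snd f g) := fun A _ _ _ x y w => by
  obtain ⟨l, hl, hl'⟩ := hf A (x ≫ pullback.fst f g) (y ≫ g) (by
    rw [Category.assoc, pullback.condition, reassoc_of% w])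
  refine ⟨pullback.lift l y hl, pullback.lift_snd _ _ _, pullback.hom_ext ?_ ?_⟩
  · rw [Category.assoc, pullback.lift_fst, hl']
  · rw [Category.assoc, pullback.lift_snd, w]

/-- a lift for any choice of the fraction field -/
theorem DvrExist.lift (hf : DvrExist f) (A K : Type u) [CommRing A] [IsDomain A] [IsDiscreteValuationRing A]
    [Field K] [Algebra A K] [IsFractionRing A K] (x : Spec (CommRingCat.of K) ⟶ X)
    (y : Spec (CommRingCat.of A) ⟶ Y) (w : x ≫ f = Spec.map (CommRingCat.ofHom (algebraMap A K)) ≫ y) :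
    ∃ l : Spec (CommRingCat.of A) ⟶ X, l ≫ f = y ∧ Spec.map (CommRingCat.ofHom (algebraMap A K)) ≫ l = x := by
  let e := FractionRing.algEquiv A K
  have he : CommRingCat.ofHom (algebraMap A (FractionRing A)) ≫ CommRingCat.ofHom e.toRingHom =
      CommRingCat.ofHom (algebraMap A K) := CommRingCat.hom_ext (RingHom.ext fun a => e.commutes a)
  have he' : CommRingCat.ofHom (algebraMap A K) ≫ CommRingCat.ofHom e.symm.toRingHom =
      CommRingCat.ofHom (algebraMap A (FractionRing A)) := CommRingCat.hom_ext (RingHom.ext fun a => e.symm.commutes a)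
  obtain ⟨l, hl, hl'⟩ := hf A (Spec.map (CommRingCat.ofHom e.symm.toRingHom) ≫ x) y (by
    rw [Category.assoc, w, ← Spec.map_comp_assoc, he'])
  refine ⟨l, hl, ?_⟩
  rw [← he, Spec.map_comp, Category.assoc, hl', ← Spec.map_comp_assoc]
  have : CommRingCat.ofHom e.symm.toRingHom ≫ CommRingCat.ofHom e.toRingHom = 𝟙 _ :=
    CommRingCat.hom_ext (RingHom.ext fun a => e.apply_symm_apply a)
  rw [this, Spec.map_id, Category.id_comp]

theorem DvrExist.specializingMap (hf : DvrExist f) [IsLocallyNoetherian Y] [LocallyOfFiniteType f] :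
    SpecializingMap f.base := by
  intro x y' h
  rcases eq_or_ne y' (f.base x) with rfl | hne
  · exact ⟨x, specializes_rfl, rfl⟩
  · obtain ⟨A, g, hA, hgy, w⟩ := exists_dvr_point f x y' h hne
    haveI := hA
    obtain ⟨l, hl, hl'⟩ := hf.lift f A (X.residueField x) (X.fromSpecResidueField x) g w.symm
    refine ⟨l (IsLocalRing.closedPoint A), ?_, ?_⟩
    · simp_rw [← Scheme.fromSpecResidueField_apply x (IsLocalRing.closedPoint (X.residueField x)), ← hl']
      exact (IsLocalRing.specializes_closedPoint _).map l.continuous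
    · show (l ≫ f) (IsLocalRing.closedPoint A) = y'
      rw [hl]; exact hgy

theorem DvrExist.isClosedMap_snd (hf : DvrExist f) [IsLocallyNoetherian Y] [LocallyOfFiniteType f] [QuasiCompact f]
    {S' : Scheme.{u}} (g : S' ⟶ Y) [LocallyOfFiniteType g] : IsClosedMap (pullback.snd f g).base := by
  haveI : IsLocallyNoetherian S' := LocallyOfFiniteType.isLocallyNoetherian g
  haveI : LocallyOfFiniteType (pullback.snd f g) := MorphismProperty.pullback_snd _ _ inferInstance
  haveI : QuasiCompact (pullback.snd f g) := MorphismProperty.pullback_snd _ _ inferInstance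
  exact (isClosedMap_iff_specializingMap _).mpr ((hf.pullback_snd f g).specializingMap _)

set_option backward.isDefEq.respectTransparency.types false in
/-- closed after every base change of finite type implies universally closed -/
theorem universallyClosed_of_forall_lft [QuasiCompact f]
    (h : ∀ {S' : Scheme.{u}} (g : S' ⟶ Y), LocallyOfFiniteType g → IsClosedMap (pullback.snd f g).base) :
    UniversallyClosed f := by
  refine ⟨fun Z S' z g f' hsq => ?_⟩
  rw [← hsq.flip.isoPullback_hom_snd] 
  change topologically @IsClosedMap (hsq.flip.isoPullback.hom ≫ pullback.snd _ _)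
  rw [MorphismProperty.cancel_left_of_respectsIso (topologically @IsClosedMap)]
  -- reduce to affine opens of the base change mapping into affine opens of the base
  have hB : TopologicalSpace.Opens.IsBasis {W : S'.Opens | IsAffineOpen W ∧ ∃ U : Y.Opens, IsAffineOpen U ∧ W ≤ g ⁻¹ᵁ U} := by
    refine TopologicalSpace.Opens.isBasis_iff_nbhd.mpr fun {V s} hs => ?_
    obtain ⟨_, ⟨U, hU, rfl⟩, hsU, -⟩ :=
      Y.isBasis_affineOpens.exists_subset_of_mem_open (Set.mem_univ (g.base s)) isOpen_univ
    obtain ⟨W, hW, hsW, hWle⟩ := TopologicalSpace.Opens.isBasis_iff_nbhd.mp S'.isBasis_affineOpens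
      (U := V ⊓ g ⁻¹ᵁ U) (x := s) ⟨hs, hsU⟩
    exact ⟨W, ⟨hW, U, hU, hWle.trans inf_le_right⟩, hsW, hWle.trans inf_le_left⟩
  have htop : ⨆ W : {W : S'.Opens | IsAffineOpen W ∧ ∃ U : Y.Opens, IsAffineOpen U ∧ W ≤ g ⁻¹ᵁ U}, W.1 = ⊤ :=
    top_unique fun s _ => by
      obtain ⟨W, hW, hsW, -⟩ := TopologicalSpace.Opens.isBasis_iff_nbhd.mp hB (U := ⊤) (x := s) trivial
      exact TopologicalSpace.Opens.mem_iSup.mpr ⟨⟨W, hW⟩, hsW⟩
  rw [IsZariskiLocalAtTarget.iff_of_iSup_eq_top (P := topologically @IsClosedMap) (fun W : {W : S'.Opens | IsAffineOpen W ∧ ∃ U : Y.Opens, IsAffineOpen U ∧ W ≤ g ⁻¹ᵁ U} => W.1) htop]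
  rintro ⟨W, hW, U, hU, hWU⟩
  -- the ring map
  let φ := g.appLE U W hWU
  letI : Algebra Γ(Y, U) Γ(S', W) := φ.hom.toAlgebra
  let str := ConsPair.SubalgLimit.str Γ(Y, U) Γ(S', W)
  let D := ConsPair.SubalgLimit.specDiag Γ(Y, U) Γ(S', W)
  let c := ConsPair.SubalgLimit.specCone Γ(Y, U) Γ(S', W)
  obtain ⟨a⟩ := IsCofiltered.nonempty (C := (ConsPair.SubalgLimit.FGSub Γ(Y, U) Γ(S', W))ᵒᵖ)
  let t : pullback f (str a ≫ hU.fromSpec) ⟶ D.obj a := pullback.snd _ _
  haveI : QuasiCompact t := MorphismProperty.pullback_snd _ _ inferInstance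
  have hclosed : IsClosedMap (pullback.fst (c.π.app a) t).base := by
    refine isClosedMap_fst_limit D c (ConsPair.SubalgLimit.isLimit _ _) t fun b => ?_
    haveI : LocallyOfFiniteType (str b.left ≫ hU.fromSpec) :=
      MorphismProperty.comp_mem _ _ _ inferInstance inferInstance
    have hp : IsPullback (pullback.fst (D.map b.hom) t) (pullback.snd (D.map b.hom) t ≫ pullback.fst _ _)
        (str b.left ≫ hU.fromSpec) f := by
      refine IsPullback.paste_vert (IsPullback.of_hasPullback (D.map b.hom) t)
        (IsPullback.of_hasPullback f (str a ≫ hU.fromSpec)).flip |> fun p => ?_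
      rwa [reassoc_of% (ConsPair.SubalgLimit.map_str Γ(Y, U) Γ(S', W) b.hom)] at p
    rw [← hp.flip.isoPullback_hom_snd]
    change topologically @IsClosedMap (hp.flip.isoPullback.hom ≫ pullback.snd _ _)
    rw [MorphismProperty.cancel_left_of_respectsIso (topologically @IsClosedMap)]
    exact h _ inferInstance
  have hcone : c.π.app a ≫ str a ≫ hU.fromSpec = hW.fromSpec ≫ g := by
    rw [reassoc_of% (ConsPair.SubalgLimit.π_str Γ(Y, U) Γ(S', W) a)]
    exact hU.SpecMap_appLE_fromSpec g hW hWU
  have hp : IsPullback (pullback.snd (c.π.app a) t ≫ pullback.fst _ _) (pullback.fst (c.π.app a) t)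
      f (hW.fromSpec ≫ g) := by
    refine IsPullback.paste_vert (IsPullback.of_hasPullback (c.π.app a) t)
      (IsPullback.of_hasPullback f (str a ≫ hU.fromSpec)).flip |> fun p => ?_
    rw [hcone] at p
    exact p.flip
  have hp' : IsPullback ((pullback.snd f g ⁻¹ᵁ W).ι ≫ pullback.fst f g) (pullback.snd f g ∣_ W) f (W.ι ≫ g) :=
    (isPullback_morphismRestrict (pullback.snd f g) W).flip.paste_horiz (IsPullback.of_hasPullback f g)
  have hp'' : IsPullback ((pullback.snd f g ⁻¹ᵁ W).ι ≫ pullback.fst f g) ((pullback.snd f g ∣_ W) ≫ hW.isoSpec.hom)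
      f (hW.fromSpec ≫ g) :=
    IsPullback.of_iso hp' (Iso.refl _) (Iso.refl _) hW.isoSpec (Iso.refl _) (by simp) (by simp) (by simp)
      (by rw [IsAffineOpen.fromSpec, ← Category.assoc, ← Category.assoc, Iso.hom_inv_id, Category.id_comp, Iso.refl_hom, Category.comp_id])
  show topologically @IsClosedMap (pullback.snd f g ∣_ W)
  rw [← MorphismProperty.cancel_right_of_respectsIso (topologically @IsClosedMap) _ hW.isoSpec.hom,
    ← hp''.isoPullback_hom_snd, MorphismProperty.cancel_left_of_respectsIso (topologically @IsClosedMap)]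
  have := hclosed
  change topologically @IsClosedMap (pullback.fst (c.π.app a) t) at this
  rw [← hp.isoPullback_hom_snd, MorphismProperty.cancel_left_of_respectsIso (topologically @IsClosedMap)] at this
  exact this

theorem DvrExist.universallyClosed (hf : DvrExist f) [IsLocallyNoetherian Y] [LocallyOfFiniteType f] [QuasiCompact f] :
    UniversallyClosed f :=
  universallyClosed_of_forall_lft f fun g _ => hf.isClosedMap_snd f g

theorem dvrExist_of_universallyClosed [UniversallyClosed f] : DvrExist f := fun A _ _ _ x y w => by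
  have h : ValuativeCriterion.Existence f := (show (ValuativeCriterion.Existence ⊓ @QuasiCompact) f by rw [← UniversallyClosed.eq_valuativeCriterion]; assumption).1
  obtain ⟨l⟩ := (h { R := A, K := FractionRing A, i₁ := x, i₂ := y, commSq := ⟨w⟩ }).exists_lift
  exact ⟨l.l, l.fac_right, l.fac_left⟩

end Groth.Agent.Lead.DVR
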