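import Groth.Agent.Lead.DVR.MonoVal

/-! Monomorphisms with the dense lifting property are quasi-compact. -/

set_option autoImplicit false

universe u

open CategoryTheory CategoryTheory.Limits AlgebraicGeometry

namespace Groth.Agent.Lead.DVR.MonoVal

theorem quasiCompact_of_denseLift {X Y : Scheme.{u}} [IsLocallyNoetherian X] (f : Y ⟶ X) [Mono f]
    (hc : ∀ (A : Type u) [CommRing A] [IsDomain A] (s : Spec (CommRingCat.of A) ⟶ X) (D : Set ↥(Spec (CommRingCat.of A))),
        Dense D →
        (∀ p ∈ D, ∃ l : Spec ((Spec (CommRingCat.of A)).residueField p) ⟶ Y,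
            l ≫ f = (Spec (CommRingCat.of A)).fromSpecResidueField p ≫ s) →
          ∃ U : (Spec (CommRingCat.of A)).Opens, (U : Set ↥(Spec (CommRingCat.of A))).Nonempty ∧
            ∃ l : (U : Scheme.{u}) ⟶ Y, l ≫ f = U.ι ≫ s) :
    QuasiCompact f := by
  classical
  rw [quasiCompact_iff_forall_isAffineOpen]
  intro W hW
  haveI : IsNoetherianRing Γ(X, W) := IsLocallyNoetherian.component_noetherian ⟨W, hW⟩
  let j : Spec Γ(X, W) ⟶ X := hW.fromSpec
  haveI : TopologicalSpace.NoetherianSpace (↥(Spec Γ(X, W))) :=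
    inferInstanceAs (TopologicalSpace.NoetherianSpace (PrimeSpectrum Γ(X, W)))
  suffices H : ∀ Z : TopologicalSpace.Closeds (↥(Spec Γ(X, W))), IsCompact (f ⁻¹' (j '' (Z : Set (↥(Spec Γ(X, W)))))) by
    have e : (f ⁻¹ᵁ W : Set Y) = f ⁻¹' (j '' ((⊤ : TopologicalSpace.Closeds (↥(Spec Γ(X, W)))) : Set (↥(Spec Γ(X, W))))) := by
      rw [TopologicalSpace.Closeds.coe_top]
      erw [Set.image_univ, hW.range_fromSpec]
      rfl
    erw [e]
    exact H ⊤
  intro Z
  induction Z using WellFoundedLT.induction with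
  | _ Z ih =>
    rcases (Z : Set (↥(Spec Γ(X, W)))).eq_empty_or_nonempty with h0 | hne
    · rw [h0, Set.image_empty, Set.preimage_empty]; exact isCompact_empty
    by_cases hirr : IsPreirreducible (Z : Set (↥(Spec Γ(X, W))))
    swap
    · rw [isPreirreducible_iff_isClosed_union_isClosed] at hirr
      push Not at hirr
      obtain ⟨z₁, z₂, hz₁, hz₂, hsub, h1, h2⟩ := hirr
      have e : (Z : Set (↥(Spec Γ(X, W)))) = ((Z ⊓ ⟨z₁, hz₁⟩ : TopologicalSpace.Closeds (↥(Spec Γ(X, W)))) : Set (↥(Spec Γ(X, W)))) ∪ ((Z ⊓ ⟨z₂, hz₂⟩ : TopologicalSpace.Closeds (↥(Spec Γ(X, W)))) : Set (↥(Spec Γ(X, W)))) := by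
        ext a; constructor
        · intro ha
          rcases hsub ha with h | h
          · exact Or.inl ⟨ha, h⟩
          · exact Or.inr ⟨ha, h⟩
        · rintro (⟨ha, -⟩ | ⟨ha, -⟩) <;> exact ha
      rw [e, Set.image_union, Set.preimage_union]
      refine (ih _ (inf_le_left.lt_of_ne fun h => h1 ?_)).union (ih _ (inf_le_left.lt_of_ne fun h => h2 ?_))
      · intro a ha; rw [← h] at ha; exact ha.2
      · intro a ha; rw [← h] at ha; exact ha.2
    obtain ⟨p, hp⟩ := QuasiSober.sober ⟨hne, hirr⟩ Z.isClosed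
    by_cases hden : closure ((Z : Set (↥(Spec Γ(X, W)))) ∩ j ⁻¹' Set.range f) = (Z : Set (↥(Spec Γ(X, W))))
    swap
    · let Z' : TopologicalSpace.Closeds (↥(Spec Γ(X, W))) :=
        ⟨closure ((Z : Set (↥(Spec Γ(X, W)))) ∩ j ⁻¹' Set.range f), isClosed_closure⟩
      have hle : Z' ≤ Z := closure_minimal Set.inter_subset_left Z.isClosed
      have hlt : Z' < Z := hle.lt_of_ne fun h => hden (congrArg SetLike.coe h)
      have e : f ⁻¹' (j '' (Z : Set (↥(Spec Γ(X, W))))) = f ⁻¹' (j '' (Z' : Set (↥(Spec Γ(X, W))))) := by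
        refine subset_antisymm ?_ (Set.preimage_mono (Set.image_mono hle))
        rintro y ⟨a, ha, hay⟩
        exact ⟨a, subset_closure ⟨ha, y, hay.symm⟩, hay⟩
      rw [e]; exact ih _ hlt
    · let p' : PrimeSpectrum Γ(X, W) := p
      let A := Γ(X, W) ⧸ p'.asIdeal
      let q : Γ(X, W) ⟶ CommRingCat.of A := CommRingCat.ofHom (Ideal.Quotient.mk p'.asIdeal)
      let s : Spec (CommRingCat.of A) ⟶ X := Spec.map q ≫ j
      have hrq : Set.range (Spec.map q) = (Z : Set (↥(Spec Γ(X, W)))) := by
        have h1 := range_comap_of_surjective A (Ideal.Quotient.mk p'.asIdeal) Ideal.Quotient.mk_surjective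
        rw [Ideal.mk_ker] at h1
        refine h1.trans ?_
        rw [← PrimeSpectrum.closure_singleton p']
        exact hp
      haveI : IsClosedImmersion (Spec.map q) := IsClosedImmersion.spec_of_surjective q Ideal.Quotient.mk_surjective
      let D : Set (Spec (CommRingCat.of A)) := s ⁻¹' Set.range f
      have hD : Dense D := by
        intro a
        rw [(Spec.map q).isClosedEmbedding.isInducing.closure_eq_preimage_closure_image]
        show Spec.map q a ∈ closure (Spec.map q '' D)
        have h1 : Spec.map q a ∈ closure ((Z : Set (↥(Spec Γ(X, W)))) ∩ j ⁻¹' Set.range f) := by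
          rw [hden, ← hrq]; exact ⟨a, rfl⟩
        refine closure_mono ?_ h1
        rintro b ⟨hb, hbf⟩
        rw [← hrq] at hb
        obtain ⟨a', rfl⟩ := hb
        refine ⟨a', ?_, rfl⟩
        show s a' ∈ Set.range f
        rw [show s a' = j (Spec.map q a') from rfl]
        exact hbf
      obtain ⟨U, hUne, l, hl⟩ := hc A s D hD fun a ⟨y, hy⟩ => by
        obtain ⟨l₀, hl₀⟩ := exists_residue_lift (A := IsLocalRing.ResidueField ((Spec (CommRingCat.of A)).presheaf.stalk a)) f ((Spec (CommRingCat.of A)).fromSpecResidueField a ≫ s) y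
          ((Scheme.Hom.comp_apply _ _ _).trans ((congrArg s (Scheme.fromSpecResidueField_apply a _)).trans hy.symm))
        let r := IsLocalRing.residue (IsLocalRing.ResidueField ((Spec (CommRingCat.of A)).presheaf.stalk a))
        have hr : Function.Bijective r := ⟨r.injective, IsLocalRing.residue_surjective⟩
        let rC : (Spec (CommRingCat.of A)).residueField a ⟶
            CommRingCat.of (IsLocalRing.ResidueField (IsLocalRing.ResidueField ((Spec (CommRingCat.of A)).presheaf.stalk a))) := CommRingCat.ofHom r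
        haveI : IsIso rC := (ConcreteCategory.isIso_iff_bijective _).mpr hr
        refine ⟨Spec.map (inv rC) ≫ l₀, ?_⟩
        rw [Category.assoc]
        refine (congrArg (Spec.map (inv rC) ≫ ·) hl₀).trans ?_
        show Spec.map (inv rC) ≫ Spec.map rC ≫ _ = _
        rw [← Spec.map_comp_assoc, IsIso.hom_inv_id, Spec.map_id]
        exact Category.id_comp _
      let Z' : TopologicalSpace.Closeds (↥(Spec Γ(X, W))) :=
        ⟨Spec.map q '' (U : Set (Spec (CommRingCat.of A)))ᶜ, (Spec.map q).isClosedEmbedding.isClosedMap _ U.isOpen.isClosed_compl⟩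
      have hle : Z' ≤ Z := fun b hb => by
        obtain ⟨a, -, rfl⟩ := hb
        show Spec.map q a ∈ (Z : Set (↥(Spec Γ(X, W))))
        rw [← hrq]; exact ⟨a, rfl⟩
      have hlt : Z' < Z := hle.lt_of_ne fun h => by
        obtain ⟨a, ha⟩ := hUne
        have : Spec.map q a ∈ (Z' : Set (↥(Spec Γ(X, W)))) := by rw [h, ← hrq]; exact ⟨a, rfl⟩
        obtain ⟨a', ha', e⟩ := this
        exact ha' ((Spec.map q).isClosedEmbedding.injective e ▸ ha)
      have e : f ⁻¹' (j '' (Z : Set (↥(Spec Γ(X, W))))) = Set.range l ∪ f ⁻¹' (j '' (Z' : Set (↥(Spec Γ(X, W))))) := by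
        ext y; constructor
        · rintro ⟨b, hb, hby⟩
          rw [← hrq] at hb
          obtain ⟨a, rfl⟩ := hb
          by_cases ha : a ∈ U
          · refine Or.inl ⟨⟨a, ha⟩, f.injective ?_⟩
            rw [← Scheme.Hom.comp_apply, hl, ← hby]
            rfl
          · exact Or.inr ⟨_, ⟨a, ha, rfl⟩, hby⟩
        · rintro (⟨a, rfl⟩ | ⟨b, hb, hby⟩)
          · refine ⟨Spec.map q (U.ι a), by rw [← hrq]; exact ⟨_, rfl⟩, ?_⟩
            rw [← Scheme.Hom.comp_apply, ← Scheme.Hom.comp_apply, ← Scheme.Hom.comp_apply, hl]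
          · exact ⟨b, hle hb, hby⟩
      rw [e]
      refine IsCompact.union ?_ (ih _ hlt)
      haveI : CompactSpace (U : Scheme.{u}) := by
        haveI : IsNoetherianRing A := Ideal.Quotient.isNoetherianRing _
        haveI : TopologicalSpace.NoetherianSpace (Spec (CommRingCat.of A)) :=
          inferInstanceAs (TopologicalSpace.NoetherianSpace (PrimeSpectrum A))
        exact isCompact_iff_compactSpace.mp (TopologicalSpace.NoetherianSpace.isCompact _)
      exact isCompact_range l.continuous

end Groth.Agent.Lead.DVR.MonoVal
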