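import Mathlib
import Groth.Agent.S7663

/-!
Every Noetherian local domain which is not a field is dominated by a discrete valuation subring of
its fraction field (after `Groth.Agent.Flat.DominateDvr`), and of any finitely generated extension.
-/

set_option autoImplicit false
set_option backward.isDefEq.respectTransparency false
set_option backward.isDefEq.respectTransparency.types false

noncomputable section

universe u

namespace Groth.Agent.Lead.DVR

theorem exists_dvr_fractionField (R K : Type u) [CommRing R] [IsDomain R] [IsLocalRing R] [IsNoetherianRing R]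
    [Field K] [Algebra R K] [IsFractionRing R K] (hR : ¬ IsField R) :
    ∃ O : ValuationSubring K, IsDiscreteValuationRing O ∧ (∀ r : R, algebraMap R K r ∈ O) ∧
      ∀ r ∈ IsLocalRing.maximalIdeal R, O.valuation (algebraMap R K r) < 1 := by
  classical
  let m := IsLocalRing.maximalIdeal R
  have hinj : Function.Injective (algebraMap R K) := IsFractionRing.injective R K
  obtain ⟨V, hle, hloc⟩ := (LocalSubring.range (algebraMap R K)).exists_le_valuationSubring
  haveI := hloc
  have hV : ∀ r : R, algebraMap R K r ∈ V := fun r => hle ⟨r, rfl⟩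
  have hVunit : ∀ r : R, r ∈ m → (algebraMap R K r)⁻¹ ∈ V → algebraMap R K r = 0 := by
    intro r hr hinv
    by_contra h0
    have h1 : IsUnit (Subring.inclusion hle ⟨algebraMap R K r, ⟨r, rfl⟩⟩) :=
      IsUnit.of_mul_eq_one ⟨_, hinv⟩ (Subtype.ext (mul_inv_cancel₀ h0))
    obtain ⟨w, hw⟩ := IsUnit.exists_right_inv (IsUnit.of_map (Subring.inclusion hle) _ h1)
    obtain ⟨_, ⟨s, rfl⟩⟩ := w
    refine (IsLocalRing.mem_maximalIdeal r).mp hr (IsUnit.of_mul_eq_one s (hinj ?_))
    rw [map_mul, map_one]
    exact congrArg Subtype.val hw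
  obtain ⟨s, hs⟩ : m.FG := IsNoetherian.noetherian m
  have hs0 : ∃ y ∈ s, algebraMap R K y ≠ 0 := by
    by_contra hc
    push_neg at hc
    refine hR (IsLocalRing.isField_iff_maximalIdeal_eq.mpr (show m = ⊥ from ?_))
    rw [← hs, Submodule.span_eq_bot]
    exact fun y hy => hinj ((hc y hy).trans (map_zero _).symm)
  obtain ⟨y₀, hy₀, hy₀0⟩ := hs0
  obtain ⟨x, hxs, hmax⟩ := s.exists_max_image (fun y => V.valuation (algebraMap R K y)) ⟨y₀, hy₀⟩
  have hx0 : algebraMap R K x ≠ 0 := fun h => by
    have h1 := hmax y₀ hy₀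
    rw [h, map_zero, nonpos_iff_eq_zero, Valuation.zero_iff] at h1
    exact hy₀0 h1
  have hxm : x ∈ m := hs ▸ Submodule.subset_span hxs
  let R' : Subalgebra R K :=
    Algebra.adjoin R ((fun y => algebraMap R K y / algebraMap R K x) '' (s : Set R))
  have hR'V : ∀ z : R', (z : K) ∈ V := by
    rintro ⟨z, hz⟩
    induction hz using Algebra.adjoin_induction with
    | mem z hz =>
      obtain ⟨y, hy, rfl⟩ := hz
      rw [← V.valuation_le_one_iff, map_div₀]
      exact (div_le_one₀ (zero_lt_iff.mpr (by simpa using hx0))).mpr (hmax y hy)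
    | algebraMap r => exact hV r
    | add a b _ _ ha hb => exact add_mem ha hb
    | mul a b _ _ ha hb => exact mul_mem ha hb
  haveI : IsNoetherianRing R' := isNoetherianRing_of_fg
    (Subalgebra.fg_def.mpr ⟨_, s.finite_toSet.image _, rfl⟩)
  haveI : IsFractionRing R' K := IsFractionRing.of_field R' K fun z => by
    obtain ⟨a, b, -, rfl⟩ := IsFractionRing.div_surjective (A := R) z
    exact ⟨algebraMap R R' a, algebraMap R R' b, rfl⟩
  have hxR' : Ideal.span {algebraMap R R' x} ≠ ⊤ := by
    intro h
    rw [Ideal.span_singleton_eq_top] at h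
    obtain ⟨w, hw⟩ := h.exists_right_inv
    refine hx0 (hVunit x hxm ?_)
    have e : (algebraMap R K x)⁻¹ = (w : K) :=
      inv_eq_of_mul_eq_one_right (congrArg Subtype.val hw)
    rw [e]
    exact hR'V w
  obtain ⟨P, hP⟩ := Ideal.nonempty_minimalPrimes hxR'
  haveI hPp : P.IsPrime := hP.1.1
  have hxP : algebraMap R R' x ∈ P := hP.1.2 (Ideal.mem_span_singleton_self _)
  have hxR'0 : algebraMap R R' x ≠ 0 := fun h => hx0 (congrArg Subtype.val h)
  let S := Localization.subalgebra.ofField K P.primeCompl P.primeCompl_le_nonZeroDivisors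
  haveI : IsLocalization.AtPrime S P :=
    Localization.subalgebra.isLocalization_ofField K P.primeCompl P.primeCompl_le_nonZeroDivisors
  haveI : IsFractionRing S K :=
    Localization.subalgebra.isFractionRing_ofField K P.primeCompl P.primeCompl_le_nonZeroDivisors
  haveI : IsNoetherianRing S := IsLocalization.isNoetherianRing P.primeCompl S inferInstance
  haveI : IsLocalRing S := IsLocalization.AtPrime.isLocalRing S P
  have hxS : ¬ IsUnit (algebraMap R' S (algebraMap R R' x)) := fun h =>
    ((IsLocalization.AtPrime.isUnit_to_map_iff S P _).mp h) hxP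
  have hdim : ringKrullDim S = 1 := by
    rw [IsLocalization.AtPrime.ringKrullDim_eq_height P S]
    have h1 : P.height ≤ 1 := Ideal.height_le_one_of_isPrincipal_of_mem_minimalPrimes _ P hP
    have h0 : P.height ≠ 0 := fun h => by
      rw [Ideal.height_eq_zero_iff_eq_bot] at h
      exact hxR'0 (by simpa [h] using hxP)
    rw [le_antisymm h1 (Order.one_le_iff_pos.mpr (pos_iff_ne_zero.mpr h0))]
    rfl
  have hne : S.toSubring ⊔ S.toSubring ≠ ⊤ := by
    rw [sup_idem]
    intro h
    refine hxS ?_
    refine IsUnit.of_mul_eq_one ⟨(algebraMap R K x)⁻¹, (h ▸ Subring.mem_top _ : _ ∈ S.toSubring)⟩ ?_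
    exact Subtype.ext (mul_inv_cancel₀ hx0)
  obtain ⟨O, hO, hSO, -⟩ := (S7663.result K S.toSubring S.toSubring hdim).mp hne
  have hRO : ∀ r : R, algebraMap R K r ∈ O := fun r =>
    hSO (algebraMap R' S (algebraMap R R' r)).2
  let φ : R →+* O := (algebraMap R K).codRestrict O.toSubring hRO
  have hφ : Function.Injective φ := fun a b h => hinj (congrArg Subtype.val h)
  -- the maximal ideal of `O` contracts to the maximal ideal of `S`
  let ι : S →+* O := Subring.inclusion hSO
  have hq : (IsLocalRing.maximalIdeal O).comap ι = IsLocalRing.maximalIdeal S := by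
    by_contra hq
    have hbot : (IsLocalRing.maximalIdeal O).comap ι = ⊥ := by
      by_contra h0
      haveI : Ring.KrullDimLE 1 S := Ring.krullDimLE_iff.mpr (by rw [hdim]; rfl)
      exact hq (IsLocalRing.eq_maximalIdeal
        ((Ideal.comap_isPrime ι _).isMaximal_of_ne_bot h0))
    apply IsDiscreteValuationRing.not_isField O
    refine ⟨⟨0, 1, zero_ne_one⟩, mul_comm, fun {a} ha => ?_⟩
    obtain ⟨b, c, hc, hbc⟩ := IsFractionRing.div_surjective (A := S) (a : K)
    have hc0 : c ≠ 0 := nonZeroDivisors.ne_zero hc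
    have hb0 : b ≠ 0 := fun h => ha (Subtype.ext (by rw [← hbc, h, map_zero, zero_div]; rfl))
    have hu : ∀ t : S, t ≠ 0 → IsUnit (ι t) := fun t ht => by
      by_contra hnu
      exact ht (by
        have : t ∈ (IsLocalRing.maximalIdeal O).comap ι := (IsLocalRing.mem_maximalIdeal _).mpr hnu
        rwa [hbot, Ideal.mem_bot] at this)
    have hab : a * ι c = ι b := Subtype.ext (by
      show (a : K) * algebraMap S K c = algebraMap S K b
      rw [← hbc, div_mul_cancel₀]
      exact (map_ne_zero_iff _ (IsFractionRing.injective S K)).mpr hc0)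
    have : IsUnit a := isUnit_of_mul_isUnit_left (hab ▸ hu b hb0)
    exact this.exists_right_inv
  refine ⟨O, hO, hRO, fun r hrm => ?_⟩
  have key : m ≤ P.comap (algebraMap R R') := by
    rw [← hs, Ideal.span, Submodule.span_le]
    intro y hy
    have e : algebraMap R R' y = algebraMap R R' x *
        ⟨algebraMap R K y / algebraMap R K x, Algebra.subset_adjoin ⟨y, hy, rfl⟩⟩ :=
      Subtype.ext (mul_div_cancel₀ _ hx0).symm
    show algebraMap R R' y ∈ P
    rw [e]; exact P.mul_mem_right _ hxP
  have hrP : algebraMap R R' r ∈ P := key hrm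
  have h1 : algebraMap R' S (algebraMap R R' r) ∈ IsLocalRing.maximalIdeal S :=
    (IsLocalRing.mem_maximalIdeal _).mpr fun h => ((IsLocalization.AtPrime.isUnit_to_map_iff S P _).mp h) hrP
  rw [← hq] at h1
  exact (O.valuation_lt_one_iff (φ r)).mp h1

end Groth.Agent.Lead.DVR

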