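import Groth.Agent.Lead.DVR.Centre
import Mathlib.RingTheory.TensorProduct.Nontrivial

/-! Existence in the valuative criterion from discrete valuation rings of the residue fields of chosen points. -/

set_option autoImplicit false
set_option backward.isDefEq.respectTransparency false

universe u

open CategoryTheory CategoryTheory.Limits AlgebraicGeometry IsLocalRing

namespace Groth.Agent.Lead.DVR

variable {X S : Scheme.{u}} (f : X ⟶ S)

theorem exists_valuation_over {k k' K : Type u} [Field k] [Field k'] [Field K] (i : k →+* k') (j : k →+* K) :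
    ∃ (F : Type u) (_ : Field F) (i' : k' →+* F) (j' : K →+* F), ∀ a, i' (i a) = j' (j a) := by
  letI := i.toAlgebra; letI := j.toAlgebra
  obtain ⟨m, hm⟩ := Ideal.exists_maximal (TensorProduct k k' K)
  haveI := hm
  refine ⟨TensorProduct k k' K ⧸ m, Ideal.Quotient.field m,
    (Ideal.Quotient.mk m).comp Algebra.TensorProduct.includeLeftRingHom,
    (Ideal.Quotient.mk m).comp (Algebra.TensorProduct.includeRight (R := k) (A := k') (B := K)).toRingHom, fun a => ?_⟩
  show Ideal.Quotient.mk m _ = Ideal.Quotient.mk m _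
  congr 1
  exact (Algebra.TensorProduct.tmul_one_eq_one_tmul a)

theorem existence_of_good [IsLocallyNoetherian S] [LocallyOfFiniteType f] [QuasiCompact f] [IsSeparated f]
    (hgood : ∀ z : X, ∃ η, η ⤳ z ∧ Good f η) : ValuativeCriterion.Existence f := by
  rintro ⟨R, K, x, y, ⟨w⟩⟩
  obtain ⟨_, ⟨U, hU, rfl⟩, hsU, -⟩ :=
    S.isBasis_affineOpens.exists_subset_of_mem_open (Set.mem_univ (y (closedPoint R))) isOpen_univ
  obtain ⟨π, hπ⟩ := exists_chart hU y (range_subset_of_closedPoint y hsU)
  obtain ⟨η, hηz, hη⟩ := hgood (x (closedPoint K))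
  let z := x (closedPoint K)
  have hzU : f z ∈ U := by
    show (x ≫ f) (closedPoint K) ∈ U
    rw [w, Scheme.Hom.comp_apply]
    exact range_subset_of_closedPoint y hsU ⟨_, rfl⟩
  have hηU : f η ∈ U := (hηz.map f.continuous).mem_open U.isOpen hzU
  obtain ⟨_, ⟨Vz, hVz, rfl⟩, hzVz, hVzU⟩ :=
    X.isBasis_affineOpens.exists_subset_of_mem_open (show z ∈ (f ⁻¹ᵁ U : X.Opens) from hzU) (f ⁻¹ᵁ U).isOpen
  have hVzU' : Vz ≤ f ⁻¹ᵁ U := hVzU
  have hηVz : η ∈ Vz := hηz.mem_open Vz.isOpen hzVz
  -- a valuation ring of the residue field at `η` centred at `z`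
  obtain ⟨W, hW, hWl⟩ := exists_factor_valuationRing
    (X.presheaf.stalkSpecializes hηz ≫ X.residue η).hom
  let wst : X.presheaf.stalk z ⟶ CommRingCat.of W :=
    CommRingCat.ofHom ((X.presheaf.stalkSpecializes hηz ≫ X.residue η).hom.codRestrict W.toSubring hW)
  haveI : IsLocalHom wst.hom := hWl
  let ρW : Γ(X, Vz) ⟶ CommRingCat.of W := X.presheaf.germ Vz z hzVz ≫ wst
  have hρW : ρW ≫ CommRingCat.ofHom W.subtype = toRes hηVz := by
    ext b
    show X.residue η (X.presheaf.stalkSpecializes hηz (X.presheaf.germ Vz z hzVz b)) = X.residue η _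
    rw [TopCat.Presheaf.germ_stalkSpecializes_apply]
    rfl
  -- the residue field of `W`, compared with `K`
  let i : X.residueField z →+* ResidueField W := ResidueField.map wst.hom
  obtain ⟨xst, hxst⟩ : ∃ j : X.residueField z ⟶ CommRingCat.of K, Spec.map j ≫ X.fromSpecResidueField z = x := by
    refine ⟨(X.descResidueField (Scheme.stalkClosedPointTo x)), ?_⟩
    rw [Scheme.descResidueField_stalkClosedPointTo_fromSpecResidueField]
  obtain ⟨F, _, i', j', hij⟩ := exists_valuation_over i xst.hom
  obtain ⟨V₁, hV₁, hV₁l⟩ := exists_factor_valuationRing (j'.comp (algebraMap R K))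
  haveI := hV₁l
  have hcut : ∀ a : K, j' a ∈ V₁ → ∃ r : R, algebraMap R K r = a := by
    intro a ha
    rcases ValuationRing.isInteger_or_isInteger R a with h | ⟨r, hr⟩
    · exact h
    · by_cases ha0 : a = 0
      · exact ⟨0, by rw [ha0, map_zero]⟩
      have hu : IsUnit r := by
        refine IsUnit.of_map ((j'.comp (algebraMap R K)).codRestrict V₁.toSubring hV₁) r ?_
        refine IsUnit.of_mul_eq_one ⟨_, ha⟩ (Subtype.ext ?_)
        show j' (algebraMap R K r) * j' a = 1
        rw [← map_mul, hr, inv_mul_cancel₀ ha0, map_one]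
      obtain ⟨r', hr'⟩ := hu.exists_right_inv
      refine ⟨r', ?_⟩
      have h2 : algebraMap R K r * algebraMap R K r' = 1 := by rw [← map_mul, hr', map_one]
      rw [hr] at h2
      exact (eq_inv_of_mul_eq_one_right h2).trans (inv_inv a)
  -- the composite valuation ring
  let C : ValuationSubring (X.residueField η) :=
    { ((V₁.toSubring.comap (i'.comp (residue W))).map W.subtype) with
      mem_or_inv_mem' := by
        intro a
        rcases W.mem_or_inv_mem a with ha | ha
        · by_cases h : i' (residue W ⟨a, ha⟩) ∈ V₁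
          · exact Or.inl ⟨⟨a, ha⟩, h, rfl⟩
          · have hu : IsUnit (⟨a, ha⟩ : W) := by
              by_contra hnu
              exact h (by rw [(residue_eq_zero_iff _).mpr ((mem_maximalIdeal _).mpr hnu), map_zero]; exact V₁.zero_mem)
            obtain ⟨c, hc⟩ := hu.exists_right_inv
            refine Or.inr ⟨c, ?_, (inv_eq_of_mul_eq_one_right (congrArg Subtype.val hc)).symm⟩
            show i' (residue W c) ∈ V₁
            have h1 : i' (residue W ⟨a, ha⟩) * i' (residue W c) = 1 := by
              rw [← map_mul, ← map_mul, hc, map_one, map_one]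
            rw [← inv_eq_of_mul_eq_one_right h1]
            exact (V₁.mem_or_inv_mem _).resolve_left h
        · by_cases h : i' (residue W ⟨a⁻¹, ha⟩) ∈ V₁
          · exact Or.inr ⟨⟨a⁻¹, ha⟩, h, rfl⟩
          · have hu : IsUnit (⟨a⁻¹, ha⟩ : W) := by
              by_contra hnu
              exact h (by rw [(residue_eq_zero_iff _).mpr ((mem_maximalIdeal _).mpr hnu), map_zero]; exact V₁.zero_mem)
            obtain ⟨c, hc⟩ := hu.exists_right_inv
            refine Or.inl ⟨c, ?_, ?_⟩
            · show i' (residue W c) ∈ V₁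
              have h1 : i' (residue W ⟨a⁻¹, ha⟩) * i' (residue W c) = 1 := by
                rw [← map_mul, ← map_mul, hc, map_one, map_one]
              rw [← inv_eq_of_mul_eq_one_right h1]
              exact (V₁.mem_or_inv_mem _).resolve_left h
            · have h1 : a⁻¹ * (c : X.residueField η) = 1 := congrArg Subtype.val hc
              show (c : X.residueField η) = a
              rw [← inv_eq_of_mul_eq_one_right h1, inv_inv] }
  have hCmem : ∀ a, a ∈ C ↔ ∃ h : a ∈ W, i' (residue W ⟨a, h⟩) ∈ V₁ := fun a =>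
    ⟨fun ⟨b, hb, e⟩ => e ▸ ⟨b.2, hb⟩, fun ⟨h, hb⟩ => ⟨⟨a, h⟩, hb, rfl⟩⟩
  -- elements of the chart at `z`
  have hres : ∀ b, i' (residue W (ρW b)) = j' (xst (toRes hzVz b)) := fun b => hij (toRes hzVz b)
  have hπx : f.appLE U Vz hVzU' ≫ toRes hzVz ≫ xst = π ≫ CommRingCat.ofHom (algebraMap R K) := chart_ext hU (by
    rw [Spec.map_comp, Spec.map_comp, Spec.map_comp, Category.assoc, Category.assoc, Category.assoc,
      hU.SpecMap_appLE_fromSpec f hVz hVzU', reassoc_of% (SpecMap_toRes hVz hzVz), reassoc_of% hxst, hπ, w])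
  have hηap : f.appLE U Vz hVzU' ≫ toRes hηVz = f.app U ≫ toRes (V := f ⁻¹ᵁ U) hηU := by
    simp only [toRes, Scheme.Hom.appLE, Category.assoc]
    rw [X.presheaf.germ_res_assoc]
  obtain ⟨V, hV, hVU, hηV, hVC⟩ := exists_chart_subset f hη hU hηU C (fun a => by
    have e1 : toRes (V := f ⁻¹ᵁ U) hηU (f.app U a) = (ρW (f.appLE U Vz hVzU' a) : X.residueField η) :=
      (ConcreteCategory.congr_hom hηap a).symm.trans (ConcreteCategory.congr_hom hρW (f.appLE U Vz hVzU' a)).symm
    rw [hCmem, e1]
    refine ⟨Subtype.coe_prop _, ?_⟩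
    rw [hres, show xst (toRes hzVz (f.appLE U Vz hVzU' a)) = algebraMap R K (π a) from ConcreteCategory.congr_hom hπx a]
    exact hV₁ _)
  -- the two maps from `Spec W` agree
  let aV : Γ(X, V) ⟶ CommRingCat.of W :=
    CommRingCat.ofHom ((toRes hηV).hom.codRestrict W.toSubring fun b => ((hCmem _).mp (hVC b)).1)
  have haV : aV ≫ CommRingCat.ofHom W.subtype = toRes hηV := rfl
  have hWη : Spec.map (CommRingCat.ofHom W.subtype) ≫ Spec.map ρW ≫ hVz.fromSpec = X.fromSpecResidueField η := by
    rw [← Spec.map_comp_assoc, hρW, SpecMap_toRes]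
  have hWη' : Spec.map (CommRingCat.ofHom W.subtype) ≫ Spec.map aV ≫ hV.fromSpec = X.fromSpecResidueField η := by
    rw [← Spec.map_comp_assoc, haV, SpecMap_toRes]
  have hf : (Spec.map ρW ≫ hVz.fromSpec) ≫ f = (Spec.map aV ≫ hV.fromSpec) ≫ f := by
    rw [Category.assoc, Category.assoc, ← hU.SpecMap_appLE_fromSpec f hVz hVzU', ← hU.SpecMap_appLE_fromSpec f hV hVU,
      ← Spec.map_comp_assoc, ← Spec.map_comp_assoc]
    have e : (f.appLE U Vz hVzU' ≫ ρW) ≫ CommRingCat.ofHom W.subtype = (f.appLE U V hVU ≫ aV) ≫ CommRingCat.ofHom W.subtype := by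
      refine chart_ext hU ?_
      simp only [Spec.map_comp, Category.assoc]
      rw [hU.SpecMap_appLE_fromSpec f hVz hVzU', hU.SpecMap_appLE_fromSpec f hV hVU, reassoc_of% hWη, reassoc_of% hWη']
    congr 2
    exact CommRingCat.hom_ext (RingHom.ext fun b => Subtype.ext (ConcreteCategory.congr_hom e b))
  have heq : Spec.map ρW ≫ hVz.fromSpec = Spec.map aV ≫ hV.fromSpec := by
    have hs := IsSeparated.valuativeCriterion f
      { R := W, K := X.residueField η, i₁ := X.fromSpecResidueField η, i₂ := (Spec.map ρW ≫ hVz.fromSpec) ≫ f,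
        commSq := ⟨by rw [← Category.assoc]; exact congrArg (· ≫ f) hWη.symm⟩ }
    exact congrArg CommSq.LiftStruct.l (hs.elim ⟨_, hWη, rfl⟩ ⟨_, hWη', hf.symm⟩)
  have hzV : z ∈ V := by
    have h : (Spec.map ρW ≫ hVz.fromSpec) (closedPoint W) = z := by
      rw [show ρW = X.presheaf.germ Vz z hzVz ≫ wst from rfl, Spec.map_comp, Category.assoc]
      show (Spec.map (X.presheaf.germ Vz z hzVz) ≫ hVz.fromSpec) ((Spec.map wst) (closedPoint W)) = z
      rw [show (Spec.map wst) (closedPoint W) = closedPoint (X.presheaf.stalk z) from comap_closedPoint wst.hom]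
      exact (congrArg (fun φ : Spec (X.presheaf.stalk z) ⟶ X => φ (closedPoint (X.presheaf.stalk z)))
        (hVz.fromSpecStalk_eq_fromSpecStalk hzVz)).trans X.fromSpecStalk_closedPoint
    rw [← h, heq, Scheme.Hom.comp_apply]
    exact hV.range_fromSpec.le ⟨_, rfl⟩
  have hηV' : ∀ b, (aV b : X.residueField η) = (wst (X.presheaf.germ V z hzV b) : X.residueField η) := fun b => by
    show X.residue η _ = X.residue η (X.presheaf.stalkSpecializes hηz (X.presheaf.germ V z hzV b))
    rw [TopCat.Presheaf.germ_stalkSpecializes_apply]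
    rfl
  have hVK : ∀ b, ∃ r, algebraMap R K r = xst (toRes hzV b) := fun b => by
    refine hcut _ ?_
    rw [← hij (toRes hzV b)]
    obtain ⟨h, hb⟩ := (hCmem _).mp (hVC b)
    have e : (⟨_, h⟩ : W) = wst (X.presheaf.germ V z hzV b) := Subtype.ext (hηV' b)
    rw [e] at hb
    exact hb
  choose lV hlV using hVK
  let lhom : Γ(X, V) ⟶ CommRingCat.of R := CommRingCat.ofHom
    { toFun := lV
      map_one' := IsFractionRing.injective R K (by rw [hlV, map_one, map_one, map_one])
      map_mul' := fun a b => IsFractionRing.injective R K (by rw [hlV, map_mul (algebraMap R K), hlV, hlV, map_mul, map_mul])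
      map_zero' := IsFractionRing.injective R K (by rw [hlV, map_zero, map_zero, map_zero])
      map_add' := fun a b => IsFractionRing.injective R K (by rw [hlV, map_add (algebraMap R K), hlV, hlV, map_add, map_add]) }
  have hlhom : lhom ≫ CommRingCat.ofHom (algebraMap R K) = toRes hzV ≫ xst := by
    ext b; exact hlV b
  refine ⟨⟨⟨Spec.map lhom ≫ hV.fromSpec, ?_, ?_⟩⟩⟩
  · rw [← Spec.map_comp_assoc, hlhom, Spec.map_comp, Category.assoc, SpecMap_toRes hV hzV, hxst]
  · show (Spec.map lhom ≫ hV.fromSpec) ≫ f = y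
    rw [Category.assoc, ← hU.SpecMap_appLE_fromSpec f hV hVU, ← Spec.map_comp_assoc, ← hπ]
    congr 2
    have e : (f.appLE U V hVU ≫ lhom) ≫ CommRingCat.ofHom (algebraMap R K) = π ≫ CommRingCat.ofHom (algebraMap R K) := by
      rw [Category.assoc, hlhom]
      refine chart_ext hU ?_
      rw [Spec.map_comp, Spec.map_comp, Spec.map_comp, Category.assoc, Category.assoc, Category.assoc,
        hU.SpecMap_appLE_fromSpec f hV hVU, reassoc_of% (SpecMap_toRes hV hzV), reassoc_of% hxst, hπ, w]
    exact CommRingCat.hom_ext (RingHom.ext fun b => IsFractionRing.injective R K (ConcreteCategory.congr_hom e b))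

theorem universallyClosed_of_good [IsLocallyNoetherian S] [LocallyOfFiniteType f] [QuasiCompact f] [IsSeparated f]
    (hgood : ∀ z : X, ∃ η, η ⤳ z ∧ Good f η) : UniversallyClosed f :=
  .of_valuativeCriterion f (existence_of_good f hgood)

end Groth.Agent.Lead.DVR
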