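import Groth.Agent.Lead.DVR.Dominate

/-! Discrete valuation rings of a finitely generated field extension dominating a Noetherian local domain. -/

set_option autoImplicit false

universe u

namespace Groth.Agent.Lead.DVR

/-- a Noetherian local domain, not a field, inside a field generated by it and finitely many elements,
is dominated by a discrete valuation subring of that field -/
theorem exists_dvr (A L : Type u) [CommRing A] [IsLocalRing A] [IsNoetherianRing A] [Field L] [Algebra A L]
    (hA : ¬ IsField A) (hinj : Function.Injective (algebraMap A L)) (s : Finset L)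
    (hs : Subfield.closure (Set.range (algebraMap A L) ∪ ↑s) = ⊤) :
    ∃ O : ValuationSubring L, IsDiscreteValuationRing O ∧ (∀ a : A, algebraMap A L a ∈ O) ∧
      ∀ a ∈ IsLocalRing.maximalIdeal A, O.valuation (algebraMap A L a) < 1 := by
  classical
  obtain ⟨V, hle, hloc⟩ := (LocalSubring.range (algebraMap A L)).exists_le_valuationSubring
  haveI := hloc
  have hV : ∀ a : A, algebraMap A L a ∈ V := fun a => hle ⟨a, rfl⟩
  let g : L → L := fun x => if x ∈ V then x else x⁻¹
  have hg : ∀ x, g x ∈ V := fun x => by
    simp only [g]; split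
    · assumption
    · exact (V.mem_or_inv_mem x).resolve_left ‹_›
  let B : Subalgebra A L := Algebra.adjoin A (g '' (s : Set L))
  have hBV : ∀ z : B, (z : L) ∈ V := by
    rintro ⟨z, hz⟩
    induction hz using Algebra.adjoin_induction with
    | mem z hz => obtain ⟨y, -, rfl⟩ := hz; exact hg y
    | algebraMap r => exact hV r
    | add a b _ _ ha hb => exact add_mem ha hb
    | mul a b _ _ ha hb => exact mul_mem ha hb
  haveI : IsNoetherianRing B := isNoetherianRing_of_fg (Subalgebra.fg_def.mpr ⟨_, s.finite_toSet.image _, rfl⟩)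
  haveI : IsFractionRing B L := by
    refine IsFractionRing.of_field B L fun z => ?_
    have hz : z ∈ Subfield.closure (B : Set L) := by
      have h : Subfield.closure (Set.range (algebraMap A L) ∪ ↑s) ≤ Subfield.closure (B : Set L) := by
        rw [Subfield.closure_le, Set.union_subset_iff]
        refine ⟨?_, fun x hx => ?_⟩
        · rintro _ ⟨a, rfl⟩; exact Subfield.subset_closure (B.algebraMap_mem a)
        · have h1 : g x ∈ Subfield.closure (B : Set L) := Subfield.subset_closure (Algebra.subset_adjoin ⟨x, hx, rfl⟩)
          simp only [g] at h1; split at h1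
          · exact h1
          · simpa using inv_mem h1
      exact h (hs ▸ Subfield.mem_top z)
    obtain ⟨a, ha, b, hb, rfl⟩ := Subfield.mem_closure_iff.mp hz
    have e : Subring.closure (B : Set L) = B.toSubring := Subring.closure_eq B.toSubring
    rw [e] at ha hb
    exact ⟨⟨a, ha⟩, ⟨b, hb⟩, rfl⟩
  let φ : B →+* V := B.val.toRingHom.codRestrict V.toSubring hBV
  let P : Ideal B := (IsLocalRing.maximalIdeal V).comap φ
  haveI : P.IsPrime := Ideal.comap_isPrime φ _
  have hP : ∀ a ∈ IsLocalRing.maximalIdeal A, algebraMap A B a ∈ P := fun a ha => by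
    refine (IsLocalRing.mem_maximalIdeal _).mpr fun h1 => ?_
    let r : (LocalSubring.range (algebraMap A L)).toSubring := ⟨algebraMap A L a, ⟨a, rfl⟩⟩
    have h2 : IsUnit r := IsUnit.of_map (Subring.inclusion hle) r h1
    obtain ⟨⟨_, ⟨b, rfl⟩⟩, hb⟩ := h2.exists_right_inv
    refine (IsLocalRing.mem_maximalIdeal a).mp ha (IsUnit.of_mul_eq_one b (hinj ?_))
    rw [map_mul, map_one]
    exact congrArg Subtype.val hb
  let S := Localization.subalgebra.ofField L P.primeCompl P.primeCompl_le_nonZeroDivisors
  haveI : IsLocalization.AtPrime S P :=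
    Localization.subalgebra.isLocalization_ofField L P.primeCompl P.primeCompl_le_nonZeroDivisors
  haveI : IsFractionRing S L :=
    Localization.subalgebra.isFractionRing_ofField L P.primeCompl P.primeCompl_le_nonZeroDivisors
  haveI : IsNoetherianRing S := IsLocalization.isNoetherianRing P.primeCompl S inferInstance
  haveI : IsLocalRing S := IsLocalization.AtPrime.isLocalRing S P
  have hmS : ∀ a ∈ IsLocalRing.maximalIdeal A, algebraMap B S (algebraMap A B a) ∈ IsLocalRing.maximalIdeal S :=
    fun a ha => (IsLocalRing.mem_maximalIdeal _).mpr fun h =>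
      ((IsLocalization.AtPrime.isUnit_to_map_iff S P _).mp h) (hP a ha)
  have hS : ¬ IsField S := fun hf => by
    have hm : IsLocalRing.maximalIdeal A ≠ ⊥ := fun h => hA (IsLocalRing.isField_iff_maximalIdeal_eq.mpr h)
    obtain ⟨a, ha, ha0⟩ := Submodule.exists_mem_ne_zero_of_ne_bot hm
    have h := hmS a ha
    rw [IsLocalRing.isField_iff_maximalIdeal_eq.mp hf, Ideal.mem_bot] at h
    exact ha0 (hinj ((congrArg Subtype.val h).trans (map_zero (algebraMap A L)).symm))
  obtain ⟨O, hO, hSO, hmO⟩ := exists_dvr_fractionField S L hS
  exact ⟨O, hO, fun a => hSO (algebraMap B S (algebraMap A B a)), fun a ha => hmO _ (hmS a ha)⟩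

/-- the generated subfield is everything when the field is generated over the fraction field -/
theorem closure_eq_top (A K L : Type u) [CommRing A] [Field K] [Algebra A K] [IsFractionRing A K]
    [Field L] [Algebra K L] [Algebra A L] [IsScalarTower A K L] (s : Finset L)
    (hs : IntermediateField.adjoin K (↑s : Set L) = ⊤) :
    Subfield.closure (Set.range (algebraMap A L) ∪ ↑s) = ⊤ := by
  refine eq_top_iff.mpr fun z _ => ?_
  have hz : z ∈ (IntermediateField.adjoin K (↑s : Set L)).toSubfield := by rw [hs]; trivial
  rw [IntermediateField.adjoin_toSubfield] at hz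
  refine Subfield.closure_le.mpr ?_ hz
  rintro x (⟨k, rfl⟩ | hx)
  · obtain ⟨a, b, -, rfl⟩ := IsFractionRing.div_surjective (A := A) k
    rw [map_div₀, ← IsScalarTower.algebraMap_apply, ← IsScalarTower.algebraMap_apply]
    exact div_mem (Subfield.subset_closure (Or.inl ⟨a, rfl⟩)) (Subfield.subset_closure (Or.inl ⟨b, rfl⟩))
  · exact Subfield.subset_closure (Or.inr hx)

end Groth.Agent.Lead.DVR
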