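import Groth.Agent.Lead.DVR.Existence

/-! Separatedness and properness from discrete valuation rings of residue fields. -/

set_option autoImplicit false
set_option backward.isDefEq.respectTransparency false

universe u

open CategoryTheory CategoryTheory.Limits AlgebraicGeometry IsLocalRing

namespace Groth.Agent.Lead.DVR

variable {X S : Scheme.{u}} (f : X ⟶ S)

theorem exists_generic_specializes (z : X) : ∃ η : X, closure {η} ∈ irreducibleComponents (X : Type u) ∧ η ⤳ z := by
  obtain ⟨η, hη⟩ := QuasiSober.sober (isIrreducible_irreducibleComponent (x := z)) isClosed_irreducibleComponent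
  refine ⟨η, hη.def.symm ▸ irreducibleComponent_mem_irreducibleComponents z, hη.specializes ?_⟩
  exact mem_irreducibleComponent

theorem mem_range_of_denseRange {U : Scheme.{u}} (h : U ⟶ X) [QuasiCompact h] (hd : DenseRange h.base) (η : X)
    (hη : closure {η} ∈ irreducibleComponents (X : Type u)) : η ∈ Set.range h := by
  obtain ⟨_, ⟨V, hV, rfl⟩, hηV, -⟩ :=
    X.isBasis_affineOpens.exists_subset_of_mem_open (Set.mem_univ η) isOpen_univ
  haveI : CompactSpace (h ⁻¹ᵁ V).toScheme := isCompact_iff_compactSpace.mp (h.isCompact_preimage hV.isCompact)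
  obtain ⟨R, t, ht⟩ := compactSpace_iff_exists.mp ‹_›
  obtain ⟨φ, hφ⟩ := exists_chart hV (t ≫ (h ⁻¹ᵁ V).ι ≫ h) (by
    rintro _ ⟨p, rfl⟩
    exact (t p).2)
  have hd' : DenseRange (PrimeSpectrum.comap φ.hom) := by
    intro q
    rw [mem_closure_iff]
    intro o ho hq
    obtain ⟨p, hp⟩ := hd.exists_mem_open (hV.fromSpec.isOpenEmbedding.isOpenMap o ho) ⟨_, Set.mem_image_of_mem _ hq⟩
    obtain ⟨v, hv, hvp⟩ := hp
    have hpV : p ∈ h ⁻¹ᵁ V := by
      show h p ∈ V
      rw [← hvp]
      exact hV.range_fromSpec.le ⟨v, rfl⟩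
    obtain ⟨r, hr⟩ := ht (⟨p, hpV⟩ : (h ⁻¹ᵁ V).toScheme)
    refine ⟨PrimeSpectrum.comap φ.hom r, ?_, Set.mem_range_self r⟩
    have : hV.fromSpec (Spec.map φ r) = hV.fromSpec v := by
      rw [← Scheme.Hom.comp_apply, hφ, Scheme.Hom.comp_apply, hr, hvp]
      rfl
    show Spec.map φ r ∈ o
    rw [hV.fromSpec.isOpenEmbedding.injective this]
    exact hv
  obtain ⟨m, hm⟩ : ∃ m, hV.fromSpec m = η := by
    have : η ∈ Set.range hV.fromSpec := hV.range_fromSpec.ge hηV
    exact this
  have hmin : m.asIdeal ∈ minimalPrimes Γ(X, V) := by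
    refine ⟨⟨m.isPrime, bot_le⟩, fun q hq hle => ?_⟩
    have hs : hV.fromSpec (⟨q, hq.1⟩ : PrimeSpectrum _) ⤳ η :=
      hm ▸ ((PrimeSpectrum.le_iff_specializes ⟨q, hq.1⟩ m).mp hle).map hV.fromSpec.continuous
    have h2 := hη.2 isIrreducible_singleton.closure
      (closure_minimal (Set.singleton_subset_iff.mpr hs.mem_closure) isClosed_closure)
    have he := (hs.antisymm (specializes_iff_mem_closure.mpr (h2 (subset_closure rfl)))).eq
    rw [← hm] at he
    rw [← hV.fromSpec.isOpenEmbedding.injective he]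
  obtain ⟨r, hr⟩ := PrimeSpectrum.denseRange_comap_iff_minimalPrimes φ.hom |>.mp hd' m.asIdeal hmin
  refine ⟨(h ⁻¹ᵁ V).ι (t r), ?_⟩
  rw [← Scheme.Hom.comp_apply, ← Scheme.Hom.comp_apply, ← hφ, Scheme.Hom.comp_apply]
  show hV.fromSpec (PrimeSpectrum.comap φ.hom r) = η
  rw [hr]
  exact hm

/-- descends a lift to the valuation ring below -/
theorem good_of_lift [IsLocallyNoetherian S] {U : Scheme.{u}} (h : U ⟶ X) [LocallyOfFiniteType h] (u : U)
    (H : ∀ (A : Type u) [CommRing A] [IsDomain A] [IsDiscreteValuationRing A]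
      (u : Spec (CommRingCat.of (FractionRing A)) ⟶ U) (y : Spec (CommRingCat.of A) ⟶ S),
      u ≫ h ≫ f = Spec.map (CommRingCat.ofHom (algebraMap A (FractionRing A))) ≫ y →
        ∃ l : Spec (CommRingCat.of A) ⟶ X, l ≫ f = y ∧
          Spec.map (CommRingCat.ofHom (algebraMap A (FractionRing A))) ≫ l = u ≫ h) :
    Good f (h u) := by
  intro A hA y hy
  letI : Algebra A (U.residueField u) := ((h.residueFieldMap u).hom.comp A.subtype).toAlgebra
  have hEss := LocallyOfFiniteType.stalkMap h u
  letI := (h.stalkMap u).hom.toAlgebra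
  obtain ⟨s, hs⟩ := (Algebra.essFiniteType_iff (X.presheaf.stalk (h u)) (U.presheaf.stalk u)).mp hEss
  classical
  have hnf : ¬ IsField A := IsDiscreteValuationRing.not_isField A
  have hinj : Function.Injective (algebraMap A (U.residueField u)) :=
    (h.residueFieldMap u).hom.injective.comp Subtype.val_injective
  have htop : Subfield.closure (Set.range (algebraMap A (U.residueField u)) ∪ ↑(s.image (U.residue u))) = ⊤ := by
    set F := Subfield.closure (Set.range (algebraMap A (U.residueField u)) ∪ ↑(s.image (U.residue u))) with hF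
    have hA' : ∀ a, h.residueFieldMap u a ∈ F := fun a => by
      rcases A.mem_or_inv_mem a with ha | ha
      · exact Subfield.subset_closure (Or.inl ⟨⟨a, ha⟩, rfl⟩)
      · have := inv_mem (s := F) (Subfield.subset_closure (Or.inl ⟨⟨a⁻¹, ha⟩, rfl⟩) :
          h.residueFieldMap u a⁻¹ ∈ F)
        rwa [map_inv₀, inv_inv] at this
    have hadj : ∀ w ∈ Algebra.adjoin (X.presheaf.stalk (h u)) (↑s : Set (U.presheaf.stalk u)), U.residue u w ∈ F :=
      fun w hw => by
      induction hw using Algebra.adjoin_induction with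
      | mem z hz => exact Subfield.subset_closure (Or.inr (Finset.mem_image_of_mem _ hz))
      | algebraMap r =>
        have := hA' (X.residue (h u) r)
        rwa [← ConcreteCategory.comp_apply, Scheme.residue_residueFieldMap, ConcreteCategory.comp_apply] at this
      | add a b _ _ ha hb => rw [map_add]; exact add_mem ha hb
      | mul a b _ _ ha hb => rw [map_mul]; exact mul_mem ha hb
    refine eq_top_iff.mpr fun z _ => ?_
    obtain ⟨w, rfl⟩ := U.residue_surjective u z
    obtain ⟨c, hc, hcu, hwc⟩ := hs w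
    have h0 := (hcu.map (U.residue u).hom).ne_zero
    rw [show U.residue u w = U.residue u (w * c) / U.residue u c by rw [map_mul, mul_div_cancel_right₀ _ h0]]
    exact div_mem (hadj _ hwc) (hadj _ hc)
  obtain ⟨O, hO, hAO, hmO⟩ := exists_dvr A (U.residueField u) hnf hinj _ htop
  let j : CommRingCat.of A ⟶ CommRingCat.of O := CommRingCat.ofHom ((algebraMap A (U.residueField u)).codRestrict O.toSubring hAO)
  have hj : j ≫ CommRingCat.ofHom O.subtype = CommRingCat.ofHom A.subtype ≫ h.residueFieldMap u := rfl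
  let e := FractionRing.algEquiv O (U.residueField u)
  let eH : CommRingCat.of (FractionRing O) ⟶ U.residueField u := CommRingCat.ofHom e.toRingHom
  let eI : U.residueField u ⟶ CommRingCat.of (FractionRing O) := CommRingCat.ofHom e.symm.toRingHom
  have he : CommRingCat.ofHom (algebraMap O (FractionRing O)) ≫ eH = CommRingCat.ofHom O.subtype :=
    CommRingCat.hom_ext (RingHom.ext fun a => e.commutes a)
  have he' : CommRingCat.ofHom O.subtype ≫ eI = CommRingCat.ofHom (algebraMap O (FractionRing O)) :=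
    CommRingCat.hom_ext (RingHom.ext fun a => e.symm.commutes a)
  have heI : eI ≫ eH = 𝟙 _ := CommRingCat.hom_ext (RingHom.ext fun a => e.apply_symm_apply a)
  obtain ⟨l, hl, hl'⟩ := H O (Spec.map eI ≫ U.fromSpecResidueField u) (Spec.map j ≫ y) (by
    rw [← he', Category.assoc, ← Scheme.Hom.SpecMap_residueFieldMap_fromSpecResidueField_assoc, ← hy,
      Spec.map_comp, Category.assoc, ← Spec.map_comp_assoc (CommRingCat.ofHom A.subtype), ← hj, Spec.map_comp, Category.assoc])
  have hl'' : Spec.map (CommRingCat.ofHom O.subtype) ≫ l = U.fromSpecResidueField u ≫ h := by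
    rw [← he, Spec.map_comp, Category.assoc, hl', ← Category.assoc, ← Category.assoc, ← Spec.map_comp, heI,
      Spec.map_id]
    erw [Category.id_comp]
  obtain ⟨_, ⟨V, hV, rfl⟩, hxV, -⟩ :=
    X.isBasis_affineOpens.exists_subset_of_mem_open (Set.mem_univ (l (closedPoint O))) isOpen_univ
  obtain ⟨a, ha⟩ := exists_chart hV l (range_subset_of_closedPoint l hxV)
  have hηV : h u ∈ V := by
    have h1 : l (Spec.map (CommRingCat.ofHom O.subtype) (closedPoint (U.residueField u))) = h u := by
      rw [← Scheme.Hom.comp_apply, hl'', Scheme.Hom.comp_apply]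
      exact congrArg h (Scheme.fromSpecResidueField_apply u _)
    exact h1 ▸ range_subset_of_closedPoint l hxV ⟨_, rfl⟩
  have ha' : a ≫ CommRingCat.ofHom O.subtype = toRes hηV ≫ h.residueFieldMap u := chart_ext hV (by
    rw [Spec.map_comp, Category.assoc, ha, hl'', Spec.map_comp, Category.assoc, SpecMap_toRes hV,
      Scheme.Hom.SpecMap_residueFieldMap_fromSpecResidueField])
  have hA : ∀ b, toRes hηV b ∈ A := fun b => by
    by_contra hb
    have hb0 : toRes hηV b ≠ 0 := fun e => hb (e ▸ A.zero_mem)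
    have hi := (A.mem_or_inv_mem (toRes hηV b)).resolve_left hb
    have hm : (⟨_, hi⟩ : A) ∈ maximalIdeal A := (IsLocalRing.mem_maximalIdeal _).mpr fun hu => hb (by
      obtain ⟨c, hc⟩ := hu.exists_right_inv
      have : (toRes hηV b)⁻¹ * (c : X.residueField (h u)) = 1 := congrArg Subtype.val hc
      rw [← inv_inv (toRes hηV b), inv_eq_of_mul_eq_one_right this]
      exact c.2)
    have h1 := hmO _ hm
    have h2 : O.valuation (a b : U.residueField u) ≤ 1 := (O.valuation_le_one_iff _).mpr (a b).2
    rw [show (a b : U.residueField u) = h.residueFieldMap u (toRes hηV b) from ConcreteCategory.congr_hom ha' b] at h2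
    rw [show algebraMap A (U.residueField u) ⟨_, hi⟩ = h.residueFieldMap u (toRes hηV b)⁻¹ from rfl, map_inv₀] at h1
    have h3 : O.valuation (h.residueFieldMap u (toRes hηV b)) * O.valuation (h.residueFieldMap u (toRes hηV b))⁻¹ < 1 :=
      lt_of_le_of_lt (mul_le_of_le_one_left zero_le' h2) h1
    rw [← map_mul, mul_inv_cancel₀ ((map_ne_zero _).mpr hb0), map_one] at h3
    exact lt_irrefl _ h3
  let aA : Γ(X, V) ⟶ CommRingCat.of A := CommRingCat.ofHom ((toRes hηV).hom.codRestrict A.toSubring hA)
  have haA : aA ≫ CommRingCat.ofHom A.subtype = toRes hηV := rfl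
  have haj : aA ≫ j = a := CommRingCat.hom_ext (RingHom.ext fun b => Subtype.ext
    (ConcreteCategory.congr_hom ha' b).symm)
  refine ⟨Spec.map aA ≫ hV.fromSpec, ?_, ?_⟩
  · have hcl : (Spec.map j) (closedPoint O) = closedPoint A := by
      haveI : IsLocalHom j.hom := ⟨fun z hz => by
        by_contra hz'
        exact (IsLocalRing.mem_maximalIdeal _).mp ((O.valuation_lt_one_iff (j z)).mpr
          (hmO z ((IsLocalRing.mem_maximalIdeal z).mpr hz'))) hz⟩
      exact comap_closedPoint j.hom
    obtain ⟨_, ⟨W, hW, rfl⟩, hyW, -⟩ :=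
      S.isBasis_affineOpens.exists_subset_of_mem_open (Set.mem_univ (y (closedPoint A))) isOpen_univ
    have e1 : Spec.map j ≫ (Spec.map aA ≫ hV.fromSpec) ≫ f = Spec.map j ≫ y := by
      rw [Category.assoc, ← Spec.map_comp_assoc, haj, reassoc_of% ha, hl]
    have hr1 : Set.range ((Spec.map aA ≫ hV.fromSpec) ≫ f) ⊆ (W : Set S) := range_subset_of_closedPoint _ (by
      rw [← hcl, ← Scheme.Hom.comp_apply, e1, Scheme.Hom.comp_apply, hcl]
      exact hyW)
    obtain ⟨p₁, hp₁⟩ := exists_chart hW _ hr1
    obtain ⟨p₂, hp₂⟩ := exists_chart hW y (range_subset_of_closedPoint y hyW)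
    have e2 : p₁ ≫ j = p₂ ≫ j := chart_ext hW (by
      rw [Spec.map_comp, Category.assoc, hp₁, e1, Spec.map_comp, Category.assoc, hp₂])
    have e3 : p₁ = p₂ := CommRingCat.hom_ext (RingHom.ext fun z => Subtype.ext ((h.residueFieldMap u).hom.injective
      (congrArg Subtype.val (ConcreteCategory.congr_hom e2 z))))
    rw [← hp₁, ← hp₂, e3]
  · rw [← Spec.map_comp_assoc, haA, SpecMap_toRes hV]

/-- separatedness from the uniqueness over the residue fields of good points -/
theorem isSeparated_of_unique [IsLocallyNoetherian S] [LocallyOfFiniteType f]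
    (hu : ∀ z : X, ∃ η, η ⤳ z ∧ ∀ (A : ValuationSubring (X.residueField η)), IsDiscreteValuationRing A →
      ∀ l₁ l₂ : Spec (CommRingCat.of A) ⟶ X, l₁ ≫ f = l₂ ≫ f →
        Spec.map (CommRingCat.ofHom A.subtype) ≫ l₁ = X.fromSpecResidueField η →
        Spec.map (CommRingCat.ofHom A.subtype) ≫ l₂ = X.fromSpecResidueField η → l₁ = l₂) :
    IsSeparated f := by
  haveI : IsLocallyNoetherian X := LocallyOfFiniteType.isLocallyNoetherian f
  haveI : IsLocallyNoetherian (pullback f f) := LocallyOfFiniteType.isLocallyNoetherian (pullback.fst f f ≫ f)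
  haveI : QuasiSeparated f := inferInstance
  have := universallyClosed_of_good (pullback.diagonal f) fun z => by
    obtain ⟨η, hz, hη⟩ := hu z
    refine ⟨η, hz, fun A hA y hy => ?_⟩
    have h1 := congrArg (· ≫ pullback.fst f f) hy
    have h2 := congrArg (· ≫ pullback.snd f f) hy
    simp only [Category.assoc, pullback.diagonal_fst, pullback.diagonal_snd, Category.comp_id] at h1 h2
    have e := hη A hA (y ≫ pullback.fst f f) (y ≫ pullback.snd f f) (by simp [pullback.condition]) h1 h2
    refine ⟨y ≫ pullback.fst f f, pullback.hom_ext ?_ ?_, h1⟩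
    · simp
    · simpa using e
  exact ⟨.of_isPreimmersion _ (pullback.diagonal f).isClosedMap.isClosed_range⟩

end Groth.Agent.Lead.DVR
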