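import Groth.Agent.Lead.DVR.CentreAt
import Groth.Agent.Lead.DVR.Variants

/-! Valuation rings without centre avoid a neighbourhood. -/

set_option autoImplicit false
set_option backward.isDefEq.respectTransparency false

universe u

open CategoryTheory CategoryTheory.Limits AlgebraicGeometry IsLocalRing

namespace Groth.Agent.Lead.DVR

variable {X S : Scheme.{u}} (f : X ⟶ S)

/-- the composite of a valuation ring with one of its residue field -/
noncomputable def composite {L : Type u} [Field L] (W : ValuationSubring L) (V₁ : ValuationSubring (ResidueField W)) :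
    ValuationSubring L where
  toSubring := (V₁.toSubring.comap (residue W)).map W.subtype
  mem_or_inv_mem' := by
    have key : ∀ a (ha : a ∈ W), residue W ⟨a, ha⟩ ∉ V₁ → ∃ c : W, residue W c ∈ V₁ ∧ (c : L) = a⁻¹ := by
      intro a ha h
      have hu : IsUnit (⟨a, ha⟩ : W) := by
        by_contra hnu
        exact h (by rw [(residue_eq_zero_iff _).mpr ((mem_maximalIdeal _).mpr hnu)]; exact V₁.zero_mem)
      obtain ⟨c, hc⟩ := hu.exists_right_inv
      refine ⟨c, ?_, (inv_eq_of_mul_eq_one_right (congrArg Subtype.val hc)).symm⟩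
      have h1 : residue W ⟨a, ha⟩ * residue W c = 1 := by rw [← map_mul, hc, map_one]
      rw [← inv_eq_of_mul_eq_one_right h1]
      exact (V₁.mem_or_inv_mem _).resolve_left h
    intro a
    rcases W.mem_or_inv_mem a with ha | ha
    · by_cases h : residue W ⟨a, ha⟩ ∈ V₁
      · exact Or.inl ⟨⟨a, ha⟩, h, rfl⟩
      · obtain ⟨c, hc, e⟩ := key a ha h
        exact Or.inr ⟨c, hc, e⟩
    · by_cases h : residue W ⟨a⁻¹, ha⟩ ∈ V₁
      · exact Or.inr ⟨⟨a⁻¹, ha⟩, h, rfl⟩
      · obtain ⟨c, hc, e⟩ := key a⁻¹ ha h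
        exact Or.inl ⟨c, hc, e.trans (inv_inv a)⟩

theorem mem_composite {L : Type u} [Field L] {W : ValuationSubring L} {V₁ : ValuationSubring (ResidueField W)} {a : L} :
    a ∈ composite W V₁ ↔ ∃ h : a ∈ W, residue W ⟨a, h⟩ ∈ V₁ :=
  ⟨fun ⟨b, hb, e⟩ => e ▸ ⟨b.2, hb⟩, fun ⟨h, hb⟩ => ⟨⟨a, h⟩, hb, rfl⟩⟩

theorem exists_nhd_goodAt [IsLocallyNoetherian S] [LocallyOfFiniteType f] [QuasiCompact f] (η : X) (y₀ : S)
    (hgood : GoodAt f η (· = y₀)) : ∃ U : S.Opens, y₀ ∈ U ∧ GoodAt f η (· ∈ U) := by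
  classical
  by_cases hsp : f η ⤳ y₀
  swap
  · refine ⟨⟨(closure {f η})ᶜ, isClosed_closure.isOpen_compl⟩, fun h => hsp (specializes_iff_mem_closure.mpr h),
      fun A _ y hy w => absurd ?_ hy⟩
    have h1 : f η = y (Spec.map (CommRingCat.ofHom A.subtype) (closedPoint (X.residueField η))) := by
      rw [← Scheme.Hom.comp_apply, w, Scheme.Hom.comp_apply]
      exact (congrArg f (Scheme.fromSpecResidueField_apply η _)).symm
    rw [h1]
    exact ((IsLocalRing.specializes_closedPoint _).map y.continuous).mem_closure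
  obtain ⟨_, ⟨U, hU, rfl⟩, hyU, -⟩ :=
    S.isBasis_affineOpens.exists_subset_of_mem_open (Set.mem_univ y₀) isOpen_univ
  have hηU : f η ∈ U := hsp.mem_open U.isOpen hyU
  obtain ⟨s, hs, hcov⟩ := isCompact_iff_finite_and_eq_biUnion_affineOpens.mp (f.isCompact_preimage hU.isCompact)
  have hle : ∀ V ∈ s, (V : X.Opens) ≤ f ⁻¹ᵁ U := fun V hV => hcov ▸ le_biSup (fun V : X.affineOpens => (V : X.Opens)) hV
  have hmem : ∀ x, x ∈ f ⁻¹ᵁ U → ∃ V ∈ s, x ∈ (V : X.Opens) := fun x hx => by
    rw [hcov] at hx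
    simpa [TopologicalSpace.Opens.mem_iSup] using hx
  let ρ := f.app U ≫ toRes (V := f ⁻¹ᵁ U) hηU
  haveI : IsNoetherianRing Γ(S, U) := IsLocallyNoetherian.component_noetherian ⟨U, hU⟩
  letI := ρ.hom.toAlgebra
  let p₀ := (hU.primeIdealOf ⟨y₀, hyU⟩).asIdeal
  let ι' := {V : X.affineOpens // V ∈ s ∧ η ∈ V.1}
  haveI : Finite ι' := (hs.subset fun V (h : V ∈ s ∧ η ∈ V.1) => h.1).to_subtype
  have hρ : ∀ (V : X.Opens) (hV : V ≤ f ⁻¹ᵁ U) (h : η ∈ V) a, toRes h (f.appLE U V hV a) = ρ a := fun V hV h a => by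
    have : f.appLE U V hV ≫ toRes h = ρ := by
      simp only [ρ, toRes, Scheme.Hom.appLE, Category.assoc]
      rw [X.presheaf.germ_res_assoc]
    exact ConcreteCategory.congr_hom this a
  have hgen : ∀ V : ι', ∃ g : Finset (X.residueField η), ∀ C : ValuationSubring (X.residueField η),
      (∀ a, ρ a ∈ C) → ((∀ c, toRes V.2.2 c ∈ C) ↔ ∀ b ∈ g, b ∈ C) := fun V => by
    letI := (f.appLE U V.1 (hle V.1 V.2.1)).hom.toAlgebra
    haveI : Algebra.FiniteType Γ(S, U) Γ(X, (V.1 : X.Opens)) :=
      RingHom.finiteType_algebraMap.mp (HasRingHomProperty.appLE @LocallyOfFiniteType f inferInstance ⟨U, hU⟩ V.1 (hle V.1 V.2.1))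
    obtain ⟨g, hg⟩ := (‹Algebra.FiniteType Γ(S, U) Γ(X, (V.1 : X.Opens))›).out
    refine ⟨g.image (toRes V.2.2), fun C hC => ⟨fun h b hb => ?_, fun h c => ?_⟩⟩
    · obtain ⟨c, -, rfl⟩ := Finset.mem_image.mp hb
      exact h c
    · have hc : c ∈ Algebra.adjoin Γ(S, U) (g : Set Γ(X, (V.1 : X.Opens))) := by rw [hg]; trivial
      induction hc using Algebra.adjoin_induction with
      | mem z hz => exact h _ (Finset.mem_image_of_mem _ hz)
      | algebraMap r => exact (hρ _ (hle V.1 V.2.1) V.2.2 r).symm ▸ hC r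
      | add a b _ _ ha hb => rw [map_add]; exact add_mem ha hb
      | mul a b _ _ ha hb => rw [map_mul]; exact mul_mem ha hb
  choose gens hgens using hgen
  have hbad : ∀ j : ∀ V : ι', ↥(gens V), ∃ g : Γ(S, U), g ∉ p₀ ∧ ∀ C : ValuationSubring (X.residueField η),
      ∀ hC : (∀ a, ρ a ∈ C), (∀ V, (j V : X.residueField η) ∉ C) → ¬ IsUnit (⟨ρ g, hC g⟩ : C) := by
    intro j
    by_cases hz : ∃ V, (j V : X.residueField η) = 0
    · obtain ⟨V, hV⟩ := hz
      exact ⟨1, fun h => (hU.primeIdealOf ⟨y₀, hyU⟩).isPrime.ne_top ((Ideal.eq_top_iff_one _).mpr h),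
        fun C _ hjC => absurd (hV ▸ C.zero_mem) (hjC V)⟩
    have hj0' : ∀ V, (j V : X.residueField η) ≠ 0 := fun V h => hz ⟨V, h⟩
    let T : Set (X.residueField η) := Set.range fun V => (j V : X.residueField η)⁻¹
    let B : Subalgebra Γ(S, U) (X.residueField η) := Algebra.adjoin _ T
    let J : Ideal B := Ideal.span (Set.range fun V => (⟨_, Algebra.subset_adjoin ⟨V, rfl⟩⟩ : B))
    have hBC : ∀ (C : ValuationSubring (X.residueField η)), (∀ a, ρ a ∈ C) → (∀ V, (j V : X.residueField η) ∉ C) →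
        ∀ z : B, (z : X.residueField η) ∈ C := fun C hC hjC => by
      rintro ⟨z, hz⟩
      induction hz using Algebra.adjoin_induction with
      | mem z hz =>
        obtain ⟨V, rfl⟩ := hz
        exact (C.mem_or_inv_mem _).resolve_left (hjC V)
      | algebraMap r => exact hC r
      | add a b _ _ ha hb => exact add_mem ha hb
      | mul a b _ _ ha hb => exact mul_mem ha hb
    by_cases hI : J.comap (algebraMap Γ(S, U) B) ≤ p₀
    swap
    · obtain ⟨g, hg, hgp⟩ := SetLike.not_le_iff_exists.mp hI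
      refine ⟨g, hgp, fun C hC hjC => ?_⟩
      let φ : B →+* C := B.val.toRingHom.codRestrict C.toSubring (hBC C hC hjC)
      have hJ : J ≤ (maximalIdeal C).comap φ := by
        rw [Ideal.span_le]
        rintro _ ⟨V, rfl⟩
        refine (mem_maximalIdeal _).mpr fun h => hjC V ?_
        obtain ⟨w, hw⟩ := h.exists_right_inv
        have : (j V : X.residueField η)⁻¹ * (w : X.residueField η) = 1 := congrArg Subtype.val hw
        rw [← inv_inv (j V : X.residueField η), inv_eq_of_mul_eq_one_right this]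
        exact w.2
      exact (mem_maximalIdeal _).mp (show φ (algebraMap Γ(S, U) B g) ∈ maximalIdeal C from hJ hg)
    -- otherwise a valuation ring centred at `y₀` has no centre
    exfalso
    have hdisj : Disjoint (J : Set B) (p₀.primeCompl.map (algebraMap Γ(S, U) B) : Submonoid B) := by
      rw [Set.disjoint_left]
      rintro _ hx ⟨r, hr, rfl⟩
      exact hr (hI hx)
    obtain ⟨Q, hQ, hJQ, hQdisj⟩ := J.exists_le_prime_disjoint _ hdisj
    haveI := hQ
    let A := Localization.AtPrime Q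
    have hu : ∀ y : Q.primeCompl, IsUnit (B.val.toRingHom y) := fun y =>
      isUnit_iff_ne_zero.mpr fun e => y.2 (by rw [show (y : B) = 0 from Subtype.ext e]; exact Q.zero_mem)
    let ι : A →+* X.residueField η := IsLocalization.lift hu
    obtain ⟨C, hAC, hloc⟩ := exists_factor_valuationRing ι
    haveI := hloc
    let φC : A →+* C := ι.codRestrict C.toSubring hAC
    have hjm : ∀ V, φC (algebraMap B A ⟨_, Algebra.subset_adjoin ⟨V, rfl⟩⟩) ∈ maximalIdeal C := fun V =>
      (mem_maximalIdeal _).mpr fun h =>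
        ((IsLocalization.AtPrime.isUnit_to_map_iff A Q _).mp (IsUnit.of_map φC _ h))
          (hJQ (Ideal.subset_span ⟨V, rfl⟩))
    let θ : Γ(S, U) →+* ResidueField C := (residue C).comp (φC.comp ((algebraMap B A).comp (algebraMap Γ(S, U) B)))
    have hθ : ∀ r : p₀.primeCompl, IsUnit (θ r) := fun r => by
      have h : algebraMap Γ(S, U) B r.1 ∈ Q.primeCompl := fun h =>
        Set.disjoint_left.mp hQdisj h ⟨r.1, r.2, rfl⟩
      exact ((IsLocalization.map_units A (⟨_, h⟩ : Q.primeCompl)).map φC).map (residue C)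
    obtain ⟨V₁, hV₁, hV₁l⟩ := exists_factor_valuationRing (IsLocalization.lift hθ : Localization.AtPrime p₀ →+* ResidueField C)
    haveI := hV₁l
    have hθ' : ∀ r, θ r = IsLocalization.lift hθ (algebraMap _ (Localization.AtPrime p₀) r) := fun r =>
      (IsLocalization.lift_eq hθ r).symm
    have hιρ : ∀ r, ι (algebraMap B A (algebraMap Γ(S, U) B r)) = ρ r := fun r => IsLocalization.lift_eq hu _
    have hρC : ∀ r, ρ r ∈ C := fun r => hιρ r ▸ hAC _
    have hρC' : ∀ r, ρ r ∈ composite C V₁ := fun r => by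
      refine mem_composite.mpr ⟨hρC r, ?_⟩
      rw [show (⟨ρ r, hρC r⟩ : C) = φC (algebraMap B A (algebraMap Γ(S, U) B r)) from Subtype.ext (hιρ r).symm]
      show θ r ∈ V₁
      rw [hθ']
      exact hV₁ _
    have hcen : centre f hU hηU (composite C V₁) hρC' = y₀ := by
      refine Eq.trans ?_ (hU.fromSpec_primeIdealOf ⟨y₀, hyU⟩)
      refine congrArg hU.fromSpec (PrimeSpectrum.ext (Ideal.ext fun r => ?_))
      show (⟨ρ r, hρC' r⟩ : composite C V₁) ∈ maximalIdeal _ ↔ r ∈ p₀
      let toV₁ : composite C V₁ →+* V₁ :=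
        ((residue C).comp (Subring.inclusion (show (composite C V₁).toSubring ≤ C.toSubring from
          fun a ha => (mem_composite.mp ha).1))).codRestrict V₁.toSubring fun a => (mem_composite.mp a.2).2
      have htoV₁ : ∀ r, toV₁ ⟨ρ r, hρC' r⟩ =
          (IsLocalization.lift hθ : Localization.AtPrime p₀ →+* ResidueField C).codRestrict V₁.toSubring hV₁
            (algebraMap _ (Localization.AtPrime p₀) r) := fun r => by
        refine Subtype.ext ?_
        show residue C ⟨ρ r, hρC r⟩ = IsLocalization.lift hθ _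
        rw [← hθ', show (⟨ρ r, hρC r⟩ : C) = φC (algebraMap B A (algebraMap Γ(S, U) B r)) from Subtype.ext (hιρ r).symm]
        rfl
      constructor
      · intro h
        by_contra hr
        have hr' : IsUnit (φC (algebraMap B A (algebraMap Γ(S, U) B r))) :=
          (IsLocalization.map_units A (⟨_, fun h => Set.disjoint_left.mp hQdisj h ⟨r, hr, rfl⟩⟩ : Q.primeCompl)).map φC
        obtain ⟨c, hc⟩ := hr'.exists_right_inv
        have h1 : θ r * residue C c = 1 := by
          show residue C _ * residue C c = 1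
          rw [← map_mul]
          exact (congrArg (residue C) hc).trans (map_one _)
        have hunit := (IsLocalization.map_units (Localization.AtPrime p₀) (⟨r, hr⟩ : p₀.primeCompl)).map
          ((IsLocalization.lift hθ : Localization.AtPrime p₀ →+* ResidueField C).codRestrict V₁.toSubring hV₁)
        obtain ⟨v, hv⟩ := hunit.exists_right_inv
        have hcV : residue C c ∈ V₁ := by
          have h2 : θ r * (v : ResidueField C) = 1 := (congrArg (· * (v : ResidueField C)) (hθ' r)).trans (congrArg Subtype.val hv)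
          rw [show residue C c = (v : ResidueField C) from
            (inv_eq_of_mul_eq_one_right h1).symm.trans (inv_eq_of_mul_eq_one_right h2)]
          exact v.2
        refine (mem_maximalIdeal _).mp h (IsUnit.of_mul_eq_one ⟨c, mem_composite.mpr ⟨c.2, hcV⟩⟩ (Subtype.ext ?_))
        show ρ r * (c : X.residueField η) = 1
        rw [← hιρ]
        exact congrArg Subtype.val hc
      · intro h
        refine (mem_maximalIdeal _).mpr fun hu => ?_
        have := hu.map toV₁
        rw [htoV₁] at this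
        exact ((IsLocalization.AtPrime.isUnit_to_map_iff (Localization.AtPrime p₀) p₀ r).mp (IsUnit.of_map _ _ this)) h
    obtain ⟨V, hV, hVU, hηV, hVC⟩ := exists_chart_subset_at f hgood hU hηU (composite C V₁) hρC' hcen
    let a : Γ(X, V) ⟶ CommRingCat.of (composite C V₁) :=
      CommRingCat.ofHom ((toRes hηV).hom.codRestrict (composite C V₁).toSubring hVC)
    obtain ⟨V', hV's, hxV'⟩ := hmem _ (hVU (hV.range_fromSpec.le
      ⟨Spec.map a (closedPoint (composite C V₁)), rfl⟩))
    let l := Spec.map a ≫ hV.fromSpec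
    have hl : Spec.map (CommRingCat.ofHom (composite C V₁).subtype) ≫ l = X.fromSpecResidueField η := by
      rw [← Spec.map_comp_assoc, show a ≫ CommRingCat.ofHom (composite C V₁).subtype = toRes hηV from rfl, SpecMap_toRes]
    have hr := range_subset_of_closedPoint (V := V'.1) l hxV'
    have hηV' : η ∈ V'.1 := by
      have h : X.fromSpecResidueField η (closedPoint (X.residueField η)) ∈ V'.1 := by
        rw [← hl, Scheme.Hom.comp_apply]
        exact hr ⟨_, rfl⟩
      rwa [Scheme.fromSpecResidueField_apply] at h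
    obtain ⟨a', ha'⟩ := exists_chart V'.2 l hr
    have he : a' ≫ CommRingCat.ofHom (composite C V₁).subtype = toRes hηV' := chart_ext V'.2 (by
      rw [Spec.map_comp, Category.assoc, ha', hl, SpecMap_toRes])
    let W : ι' := ⟨V', hV's, hηV'⟩
    have hjC' : (j W : X.residueField η) ∈ composite C V₁ :=
      (hgens W _ hρC').mp (fun c => (show toRes W.2.2 c = (a' c : X.residueField η) from
        (ConcreteCategory.congr_hom he c).symm) ▸ (a' c).2) _ (j W).2
    have hjC := (mem_composite.mp hjC').1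
    have hi : ι (algebraMap B A ⟨_, Algebra.subset_adjoin ⟨W, rfl⟩⟩) = (j W : X.residueField η)⁻¹ :=
      IsLocalization.lift_eq hu _
    have hj0 : (j W : X.residueField η) ≠ 0 := hj0' W
    refine (mem_maximalIdeal _).mp (hjm W) (IsUnit.of_mul_eq_one ⟨_, hjC⟩ (Subtype.ext ?_))
    show ι _ * (j W : X.residueField η) = 1
    rw [hi, inv_mul_cancel₀ hj0]
  choose g hgp hg using hbad
  haveI : ∀ V : ι', Finite ↥(gens V) := fun V => inferInstance
  haveI := Fintype.ofFinite (∀ V : ι', ↥(gens V))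
  let gg := ∏ j, g j
  have hggp : gg ∉ p₀ := fun h => by
    obtain ⟨j, -, hj⟩ := ((hU.primeIdealOf ⟨y₀, hyU⟩).isPrime.prod_mem_iff).mp h
    exact hgp j hj
  refine ⟨S.basicOpen gg, ?_, fun A hA y hy w => ?_⟩
  · have h := (hU.fromSpec_image_basicOpen gg).le
      (⟨hU.primeIdealOf ⟨y₀, hyU⟩, hggp, hU.fromSpec_primeIdealOf ⟨y₀, hyU⟩⟩ : y₀ ∈ hU.fromSpec '' _)
    exact h
  obtain ⟨π, hπ⟩ := exists_chart hU y (range_subset_of_closedPoint y (S.basicOpen_le gg hy))
  have hπρ : π ≫ CommRingCat.ofHom A.subtype = ρ := by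
    obtain ⟨V₀, hV₀s, hηV₀⟩ := hmem η hηU
    refine chart_ext hU ?_
    rw [Spec.map_comp, Category.assoc, hπ, w, ← SpecMap_toRes V₀.2 hηV₀, Category.assoc,
      ← hU.SpecMap_appLE_fromSpec f V₀.2 (hle V₀ hV₀s), ← Spec.map_comp_assoc]
    congr 2
    exact CommRingCat.hom_ext (RingHom.ext fun a => hρ _ (hle V₀ hV₀s) hηV₀ a)
  have hπρ' : ∀ a, (π a : X.residueField η) = ρ a := fun a => ConcreteCategory.congr_hom hπρ a
  obtain ⟨V, hV⟩ : ∃ V : ι', ∀ c, toRes V.2.2 c ∈ A := by
    by_contra! hno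
    have hρA : ∀ a, ρ a ∈ A := fun a => hπρ' a ▸ (π a).2
    have hch : ∀ V : ι', ∃ b : ↥(gens V), (b : X.residueField η) ∉ A := fun V => by
      obtain ⟨c, hc⟩ := hno V
      by_contra! h
      exact hc ((hgens V A hρA).mpr (fun b hb => h ⟨b, hb⟩) c)
    choose j hj using hch
    have hgu : IsUnit (π gg) := by
      by_contra hnu
      have hy' : hU.fromSpec (Spec.map π (closedPoint A)) ∈ S.basicOpen gg := by
        rw [← Scheme.Hom.comp_apply, hπ]; exact hy
      obtain ⟨q, hq, hqe⟩ := (hU.fromSpec_image_basicOpen gg).ge hy'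
      rw [hU.fromSpec.isOpenEmbedding.injective hqe] at hq
      exact hq ((mem_maximalIdeal _).mpr hnu)
    have hdvd : g j ∣ gg := Finset.dvd_prod_of_mem g (Finset.mem_univ j)
    refine hg j A hρA hj ?_
    rw [show (⟨ρ (g j), hρA (g j)⟩ : A) = π (g j) from Subtype.ext (hπρ' _).symm]
    exact isUnit_of_dvd_unit (map_dvd π.hom hdvd) hgu
  let a : Γ(X, V.1.1) ⟶ CommRingCat.of A := CommRingCat.ofHom ((toRes V.2.2).hom.codRestrict A.toSubring hV)
  have ha : a ≫ CommRingCat.ofHom A.subtype = toRes V.2.2 := rfl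
  refine ⟨Spec.map a ≫ V.1.2.fromSpec, ?_, ?_⟩
  · rw [Category.assoc, ← hU.SpecMap_appLE_fromSpec f V.1.2 (hle V.1 V.2.1), ← Spec.map_comp_assoc, ← hπ]
    congr 2
    exact CommRingCat.hom_ext (RingHom.ext fun b => Subtype.ext ((hρ _ (hle V.1 V.2.1) V.2.2 b).trans (hπρ' b).symm))
  · rw [← Spec.map_comp_assoc, ha, SpecMap_toRes]

end Groth.Agent.Lead.DVR
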