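import Groth.Agent.Lead.DVR.Extend

/-! Valuative lifting for monomorphisms. -/

set_option autoImplicit false

universe u

open CategoryTheory CategoryTheory.Limits AlgebraicGeometry TensorProduct

namespace Groth.Agent.Lead.DVR.MonoVal

theorem surjective_of_isEpi {k L : Type u} [Field k] [CommRing L] [Algebra k L] [Nontrivial L] [Algebra.IsEpi k L] :
    Function.Surjective (algebraMap k L) := by
  intro a
  by_contra hna
  have ha : a ∉ Submodule.span k {(1 : L)} := fun h => by
    obtain ⟨r, hr⟩ := Submodule.mem_span_singleton.mp h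
    exact hna ⟨r, by rw [Algebra.algebraMap_eq_smul_one]; exact hr⟩
  obtain ⟨φ, hφa, hφ⟩ := Submodule.exists_dual_map_eq_bot_of_notMem ha inferInstance
  have h1 : φ 1 = 0 := by
    have : φ 1 ∈ (Submodule.span k {(1 : L)}).map φ := Submodule.mem_map_of_mem (Submodule.mem_span_singleton_self 1)
    rwa [hφ, Submodule.mem_bot] at this
  let Φ : L ⊗[k] L →ₗ[k] L := (TensorProduct.lid k L).toLinearMap ∘ₗ TensorProduct.map φ LinearMap.id
  have e := congrArg Φ ((Algebra.isEpi_iff_forall_one_tmul_eq k L).mp inferInstance a)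
  simp [Φ, h1] at e
  exact (smul_ne_zero hφa one_ne_zero) e.symm

/-- a monomorphism induces isomorphisms on residue fields -/
theorem residueFieldMap_bijective {X Y : Scheme.{u}} (f : Y ⟶ X) [Mono f] (y : Y) :
    Function.Bijective (f.residueFieldMap y) := by
  haveI : Epi (f.residueFieldMap y) := ⟨fun g₁ g₂ h => by
    apply Spec.map_injective
    have h' := congrArg Spec.map h
    rw [Spec.map_comp, Spec.map_comp] at h'
    rw [← cancel_mono (Y.fromSpecResidueField y ≫ f), ← Scheme.Hom.SpecMap_residueFieldMap_fromSpecResidueField,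
      reassoc_of% h']⟩
  letI := (f.residueFieldMap y).hom.toAlgebra
  haveI : Algebra.IsEpi (X.residueField (f y)) (Y.residueField y) :=
    CommRingCat.epi_iff_epi.mp (inferInstanceAs (Epi (f.residueFieldMap y)))
  exact ⟨(f.residueFieldMap y).hom.injective, surjective_of_isEpi⟩

theorem exists_stalk_to {X : Scheme.{u}} {A : Type u} [CommRing A] [IsLocalRing A]
    (h : Spec (CommRingCat.of A) ⟶ X) (x : X) (hx : h (IsLocalRing.closedPoint A) = x) :
    ∃ θ : X.presheaf.stalk x ⟶ CommRingCat.of A, IsLocalHom θ.hom ∧ Spec.map θ ≫ X.fromSpecStalk x = h := by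
  subst hx
  exact ⟨Scheme.stalkClosedPointTo h, inferInstance, Scheme.Spec_stalkClosedPointTo_fromSpecStalk h⟩

theorem stalk_hom_ext {X : Scheme.{u}} {x : X} {A : CommRingCat.{u}} {φ ψ : X.presheaf.stalk x ⟶ A}
    (h : Spec.map φ ≫ X.fromSpecStalk x = Spec.map ψ ≫ X.fromSpecStalk x) : φ = ψ :=
  Spec.map_injective ((cancel_mono _).mp h)

/-- over the closed point -/
theorem exists_residue_lift {X Y : Scheme.{u}} (f : Y ⟶ X) [Mono f] {A : Type u} [CommRing A] [IsLocalRing A]
    (h : Spec (CommRingCat.of A) ⟶ X) (y : Y) (hy : h (IsLocalRing.closedPoint A) = f y) :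
    ∃ l₀ : Spec (CommRingCat.of (IsLocalRing.ResidueField A)) ⟶ Y,
      l₀ ≫ f = Spec.map (CommRingCat.ofHom (IsLocalRing.residue A)) ≫ h := by
  obtain ⟨θ, hθ, rfl⟩ := exists_stalk_to h _ hy
  haveI : IsIso (f.residueFieldMap y) :=
    (ConcreteCategory.isIso_iff_bijective _).mpr (residueFieldMap_bijective f y)
  haveI := hθ
  let μ : X.residueField (f y) ⟶ CommRingCat.of (IsLocalRing.ResidueField A) :=
    CommRingCat.ofHom (IsLocalRing.ResidueField.map θ.hom)
  refine ⟨Spec.map (inv (f.residueFieldMap y) ≫ μ) ≫ Y.fromSpecResidueField y, ?_⟩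
  rw [Category.assoc, ← Scheme.Hom.SpecMap_residueFieldMap_fromSpecResidueField, ← Spec.map_comp_assoc,
    IsIso.hom_inv_id_assoc, Scheme.fromSpecResidueField, ← Spec.map_comp_assoc, ← Spec.map_comp_assoc]
  rfl

/-- valuative lifting implies that specializations are reflected after base change -/
theorem reflects_of_lift {X Y : Scheme.{u}} (f : Y ⟶ X) [Mono f]
    (H : ∀ S : ValuativeCommSq f,
      (∃ l₀ : Spec (CommRingCat.of (IsLocalRing.ResidueField S.R)) ⟶ Y,
          l₀ ≫ f = Spec.map (CommRingCat.ofHom (IsLocalRing.residue S.R)) ≫ S.i₂) → S.commSq.HasLift)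
    (X' : Scheme.{u}) (g : X' ⟶ X) (y₀ y₁ : ↥(pullback f g))
    (h : (pullback.snd f g).base y₁ ⤳ (pullback.snd f g).base y₀) : y₁ ⤳ y₀ := by
  let p := pullback.snd f g
  let ψ : X'.presheaf.stalk (p y₀) ⟶ (pullback f g).residueField y₁ :=
    X'.presheaf.stalkSpecializes h ≫ p.stalkMap y₁ ≫ (pullback f g).residue y₁
  obtain ⟨A, hA, hAloc⟩ := IsLocalRing.exists_factor_valuationRing ψ.hom
  let θ : X'.presheaf.stalk (p y₀) ⟶ CommRingCat.of A := CommRingCat.ofHom (ψ.hom.codRestrict _ hA)
  haveI : IsLocalHom θ.hom := hAloc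
  let hh : Spec (CommRingCat.of A) ⟶ X' := Spec.map θ ≫ X'.fromSpecStalk (p y₀)
  have hcp : hh (IsLocalRing.closedPoint A) = p y₀ := by
    show (X'.fromSpecStalk (p y₀)).base ((Spec.map θ).base (IsLocalRing.closedPoint A)) = p y₀
    rw [show (Spec.map θ).base (IsLocalRing.closedPoint A) = IsLocalRing.closedPoint (X'.presheaf.stalk (p y₀)) from
      IsLocalRing.comap_closedPoint θ.hom]
    exact X'.fromSpecStalk_closedPoint
  have w : (pullback f g).fromSpecResidueField y₁ ≫ p =
      Spec.map (CommRingCat.ofHom (algebraMap A ((pullback f g).residueField y₁))) ≫ hh := by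
    rw [Scheme.fromSpecResidueField, Category.assoc, ← Scheme.SpecMap_stalkMap_fromSpecStalk,
      ← Scheme.SpecMap_stalkSpecializes_fromSpecStalk h]
    simp only [hh, ← Spec.map_comp_assoc]
    rfl
  obtain ⟨l₀, hl₀⟩ := exists_residue_lift p hh y₀ hcp
  have w' : ((pullback f g).fromSpecResidueField y₁ ≫ pullback.fst f g) ≫ f =
      Spec.map (CommRingCat.ofHom (algebraMap A ((pullback f g).residueField y₁))) ≫ hh ≫ g := by
    rw [Category.assoc, pullback.condition, reassoc_of% w]
  obtain ⟨l⟩ := (H { R := A, K := (pullback f g).residueField y₁, i₁ := _, i₂ := hh ≫ g, commSq := ⟨w'⟩ }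
    ⟨l₀ ≫ pullback.fst f g, ((Category.assoc _ _ _).trans (congrArg (l₀ ≫ ·) pullback.condition)).trans
      (((Category.assoc _ _ _).symm.trans (congrArg (· ≫ g) hl₀)).trans (Category.assoc _ _ _))⟩).exists_lift
  have hl : l.l ≫ f = hh ≫ g := l.fac_right
  let m : Spec (CommRingCat.of A) ⟶ pullback f g := pullback.lift l.l hh hl
  have hm : Spec.map (CommRingCat.ofHom (algebraMap A ((pullback f g).residueField y₁))) ≫ m =
      (pullback f g).fromSpecResidueField y₁ := by
    apply pullback.hom_ext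
    · rw [Category.assoc, pullback.lift_fst]; exact l.fac_left
    · rw [Category.assoc, pullback.lift_snd]; exact w.symm
  have hm0 : m (IsLocalRing.closedPoint A) = y₀ := by
    apply p.injective
    rw [← Scheme.Hom.comp_apply, pullback.lift_snd, hcp]
  have e : (pullback f g).fromSpecResidueField y₁ (IsLocalRing.closedPoint _) = y₁ :=
    Scheme.fromSpecResidueField_apply _ _
  have e2 := (congrArg (fun q : Spec ((pullback f g).residueField y₁) ⟶ pullback f g => q.base (IsLocalRing.closedPoint _)) hm).trans e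
  exact ((specializes_of_eq e2.symm).trans ((IsLocalRing.specializes_closedPoint
    ((Spec.map (CommRingCat.ofHom (algebraMap A ((pullback f g).residueField y₁)))).base
      (IsLocalRing.closedPoint _))).map m.continuous)).trans (specializes_of_eq hm0)

theorem closure_range_eq_top {X Y : Scheme.{u}} (f : Y ⟶ X) [Mono f] (w₁ : Y) (x₀ : X) (h : f w₁ ⤳ x₀) :
    Subfield.closure (Set.range ⇑(X.presheaf.stalkSpecializes h ≫ f.stalkMap w₁ ≫ Y.residue w₁)) = ⊤ := by
  obtain ⟨_, ⟨U, hU, rfl⟩, hxU, -⟩ :=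
    X.isBasis_affineOpens.exists_subset_of_mem_open (Set.mem_univ x₀) isOpen_univ
  have hpU : f w₁ ∈ U := h.mem_open U.isOpen hxU
  refine eq_top_iff.mpr fun z _ => ?_
  obtain ⟨k, rfl⟩ := (residueFieldMap_bijective f w₁).2 z
  obtain ⟨w, rfl⟩ := X.residue_surjective (f w₁) k
  show f.residueFieldMap w₁ (X.residue (f w₁) w) ∈ _
  letI := X.presheaf.algebra_section_stalk (⟨f w₁, hpU⟩ : U)
  haveI := hU.isLocalization_stalk ⟨f w₁, hpU⟩
  obtain ⟨⟨a, c⟩, hac⟩ := IsLocalization.surj (hU.primeIdealOf ⟨f w₁, hpU⟩).asIdeal.primeCompl w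
  have hc : IsUnit (X.presheaf.germ U (f w₁) hpU c.1) :=
    IsLocalization.map_units (X.presheaf.stalk (f w₁)) c
  have e : w * X.presheaf.germ U (f w₁) hpU c.1 = X.presheaf.germ U (f w₁) hpU a := hac
  have key : ∀ d, f.residueFieldMap w₁ (X.residue (f w₁) (X.presheaf.germ U (f w₁) hpU d)) ∈
      Subfield.closure (Set.range ⇑(X.presheaf.stalkSpecializes h ≫ f.stalkMap w₁ ≫ Y.residue w₁)) := fun d => by
    refine Subfield.subset_closure ⟨X.presheaf.germ U x₀ hxU d, ?_⟩
    show Y.residue w₁ (f.stalkMap w₁ (X.presheaf.stalkSpecializes h (X.presheaf.germ U x₀ hxU d))) = _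
    rw [TopCat.Presheaf.germ_stalkSpecializes_apply]
    rfl
  have h0 := ((hc.map (X.residue (f w₁)).hom).map (f.residueFieldMap w₁).hom).ne_zero
  have h1 : f.residueFieldMap w₁ (X.residue (f w₁) w) =
      f.residueFieldMap w₁ (X.residue (f w₁) (X.presheaf.germ U (f w₁) hpU a)) /
      f.residueFieldMap w₁ (X.residue (f w₁) (X.presheaf.germ U (f w₁) hpU c.1)) := by
    rw [eq_div_iff h0, ← map_mul, ← map_mul, e]
  rw [h1]
  exact div_mem (key a) (key _)

/-- DVR detecting the position of `c` relative to a dominating valuation ring -/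
theorem exists_dvr_detect {B L : Type u} [CommRing B] [IsLocalRing B] [IsNoetherianRing B] [Field L]
    (ψ : B →+* L) (hψ : ∃ b ∈ IsLocalRing.maximalIdeal B, ψ b ≠ 0) (htop : Subfield.closure (Set.range ψ) = ⊤)
    (V : ValuationSubring L) (hV : ∀ b, ψ b ∈ V) (hVm : ∀ b ∈ IsLocalRing.maximalIdeal B, V.valuation (ψ b) < 1)
    (c : L) (hc : c ∈ V) :
    ∃ D : ValuationSubring L, IsDiscreteValuationRing D ∧ (∀ b, ψ b ∈ D) ∧
      (∀ b ∈ IsLocalRing.maximalIdeal B, D.valuation (ψ b) < 1) ∧
      (V.valuation c < 1 → D.valuation c < 1) ∧ (¬ V.valuation c < 1 → ¬ D.valuation c < 1) := by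
  classical
  letI : Algebra B L := ψ.toAlgebra
  let C : Subalgebra B L := Algebra.adjoin B {c}
  have hCV : ∀ z : C, (z : L) ∈ V := by
    rintro ⟨z, hz⟩
    induction hz using Algebra.adjoin_induction with
    | mem z hz =>
      show z ∈ V
      exact (Set.mem_singleton_iff.mp hz).symm ▸ hc
    | algebraMap r => exact hV r
    | add a b _ _ ha hb => exact add_mem ha hb
    | mul a b _ _ ha hb => exact mul_mem ha hb
  haveI : IsNoetherianRing C := isNoetherianRing_of_fg (Subalgebra.fg_def.mpr ⟨{c}, Set.finite_singleton c, rfl⟩)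
  let φ : C →+* V := C.val.toRingHom.codRestrict V.toSubring hCV
  let P : Ideal C := (IsLocalRing.maximalIdeal V).comap φ
  haveI : P.IsPrime := Ideal.comap_isPrime φ _
  haveI : IsFractionRing C L := IsFractionRing.of_field C L fun z => by
    have hz : z ∈ Subfield.closure (C : Set L) := by
      have h : Subfield.closure (Set.range ψ) ≤ Subfield.closure (C : Set L) := by
        rw [Subfield.closure_le]
        rintro _ ⟨a, rfl⟩; exact Subfield.subset_closure (C.algebraMap_mem a)
      exact h (htop ▸ Subfield.mem_top z)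
    obtain ⟨a, ha, b, hb, rfl⟩ := Subfield.mem_closure_iff.mp hz
    have e : Subring.closure (C : Set L) = C.toSubring := Subring.closure_eq C.toSubring
    rw [e] at ha hb
    exact ⟨⟨a, ha⟩, ⟨b, hb⟩, rfl⟩
  let T := Localization.subalgebra.ofField L P.primeCompl P.primeCompl_le_nonZeroDivisors
  haveI : IsLocalization.AtPrime T P :=
    Localization.subalgebra.isLocalization_ofField L P.primeCompl P.primeCompl_le_nonZeroDivisors
  haveI : IsFractionRing T L :=
    Localization.subalgebra.isFractionRing_ofField L P.primeCompl P.primeCompl_le_nonZeroDivisors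
  haveI : IsNoetherianRing T := IsLocalization.isNoetherianRing P.primeCompl T inferInstance
  haveI : IsLocalRing T := IsLocalization.AtPrime.isLocalRing T P
  have hmem : ∀ z : C, V.valuation (z : L) < 1 → algebraMap C T z ∈ IsLocalRing.maximalIdeal T := fun z hz => by
    refine (IsLocalization.AtPrime.to_map_mem_maximal_iff T P z).mpr ?_
    exact (V.valuation_lt_one_iff (φ z)).mpr hz
  have hunit : ∀ z : C, ¬ V.valuation (z : L) < 1 → IsUnit (algebraMap C T z) := fun z hz => by
    refine (IsLocalization.AtPrime.isUnit_to_map_iff T P z).mpr fun h => hz ?_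
    exact (V.valuation_lt_one_iff (φ z)).mp h
  have hT : ¬ IsField T := fun hf => by
    obtain ⟨b, hb, hb0⟩ := hψ
    have h := hmem (algebraMap B C b) (hVm b hb)
    rw [IsLocalRing.isField_iff_maximalIdeal_eq.mp hf, Ideal.mem_bot] at h
    exact hb0 ((congrArg Subtype.val h).trans rfl)
  obtain ⟨D, hD, hTD, hmD⟩ := exists_dvr_fractionField T L hT
  refine ⟨D, hD, fun b => hTD (algebraMap C T (algebraMap B C b)),
    fun b hb => hmD _ (hmem (algebraMap B C b) (hVm b hb)),
    fun h => hmD _ (hmem ⟨c, Algebra.self_mem_adjoin_singleton B c⟩ h), fun h h' => ?_⟩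
  obtain ⟨w, hw⟩ := (hunit ⟨c, Algebra.self_mem_adjoin_singleton B c⟩ h).exists_right_inv
  have h1 : c * (w : L) = 1 := congrArg Subtype.val hw
  have h2 := congrArg D.valuation h1
  rw [map_mul, map_one] at h2
  have h3 : D.valuation (w : L) ≤ 1 := (D.valuation_le_one_iff _).mpr (hTD w)
  have h4 : D.valuation c * D.valuation (w : L) < 1 := mul_lt_one_of_lt_of_le h' h3
  exact h4.ne h2

end Groth.Agent.Lead.DVR.MonoVal
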