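import Groth.Agent.Lead.DVR.MonoVal
import Groth.Agent.Lead.DVR.DenseLift
import Groth.Agent.Lead.DVR.Nhd
import Groth.Agent.Lead.DVR.Criteria
import Groth.Agent.S15344
import Groth.Agent.S15346

/-! Monomorphisms with lifting along discrete valuation rings are immersions. -/

set_option autoImplicit false

universe u

open CategoryTheory CategoryTheory.Limits AlgebraicGeometry Topology IsLocalRing

namespace Groth.Agent.Lead.DVR.MonoVal

theorem exists_specializes_of_mem_closure {R : Type u} [CommRing R] {T : Set (PrimeSpectrum R)}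
    (hT : IsConstructible T) {q : PrimeSpectrum R} (hq : q ∈ closure T) : ∃ t ∈ T, t ⤳ q := by
  obtain ⟨S, _, g, rfl⟩ := PrimeSpectrum.exists_range_eq_of_isConstructible hT
  rw [PrimeSpectrum.closure_range_comap, PrimeSpectrum.mem_zeroLocus, SetLike.coe_subset_coe] at hq
  obtain ⟨p, hp, hpq⟩ := Ideal.exists_minimalPrimes_le hq
  obtain ⟨p', hp', -, hpp⟩ := Ideal.exists_comap_eq_of_mem_minimalPrimes (I := (⊥ : Ideal S)) g p hp
  refine ⟨PrimeSpectrum.comap g ⟨p', hp'⟩, ⟨_, rfl⟩, (PrimeSpectrum.le_iff_specializes _ _).mp ?_⟩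
  show p'.comap g ≤ q.asIdeal
  rw [hpp]; exact hpq

theorem codRestrict_isLocalHom {R L : Type u} [CommRing R] [IsLocalRing R] [Field L] (A : ValuationSubring L)
    (g : R →+* L) (hg : ∀ a, g a ∈ A.toSubring) (hm : ∀ a ∈ maximalIdeal R, A.valuation (g a) < 1) :
    IsLocalHom (g.codRestrict A.toSubring hg) := ⟨fun a ha => by
  by_contra hna
  exact (mem_maximalIdeal _).mp ((A.valuation_lt_one_iff _).mpr (hm a ((mem_maximalIdeal a).mpr hna))) ha⟩

/-- a point between two points of the image lies in the image -/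
theorem mem_range_of_between {X Y : Scheme.{u}} [IsLocallyNoetherian X] (f : Y ⟶ X) [Mono f]
    (hb : ∀ S : ValuativeCommSq f, IsDiscreteValuationRing S.R →
        (∃ l₀ : Spec (CommRingCat.of (IsLocalRing.ResidueField S.R)) ⟶ Y,
            l₀ ≫ f = Spec.map (CommRingCat.ofHom (IsLocalRing.residue S.R)) ≫ S.i₂) →
          S.commSq.HasLift)
    (w y : Y) (a : X) (h1 : f w ⤳ a) (h0 : a ⤳ f y) : a ∈ Set.range f := by
  let ψ₁ : X.presheaf.stalk a ⟶ Y.residueField w := X.presheaf.stalkSpecializes h1 ≫ f.stalkMap w ≫ Y.residue w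
  obtain ⟨W, hW, hWloc⟩ := exists_factor_valuationRing ψ₁.hom
  let θ₁ : X.presheaf.stalk a ⟶ CommRingCat.of W := CommRingCat.ofHom (ψ₁.hom.codRestrict _ hW)
  haveI : IsLocalHom θ₁.hom := hWloc
  obtain ⟨V₁, hV₁, hV₁loc⟩ := exists_factor_valuationRing ((IsLocalRing.residue W).comp
    (X.presheaf.stalkSpecializes h0 ≫ θ₁).hom)
  let V := Groth.Agent.Lead.DVR.composite W V₁
  have hVW : V.toSubring ≤ W.toSubring := fun z hz => (Groth.Agent.Lead.DVR.mem_composite.mp hz).1
  have hψ : ∀ b, (X.presheaf.stalkSpecializes h0 ≫ ψ₁).hom b ∈ V.toSubring := fun b =>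
    Groth.Agent.Lead.DVR.mem_composite.mpr ⟨hW _, hV₁ b⟩
  let θ : X.presheaf.stalk (f y) ⟶ CommRingCat.of V :=
    CommRingCat.ofHom ((X.presheaf.stalkSpecializes h0 ≫ ψ₁).hom.codRestrict _ hψ)
  haveI : IsLocalHom θ.hom := ⟨fun b hu => by
    obtain ⟨z, hz⟩ := hu.exists_right_inv
    haveI := hV₁loc
    obtain ⟨hzW, hzV₁⟩ := Groth.Agent.Lead.DVR.mem_composite.mp z.2
    refine isUnit_of_map_unit (((IsLocalRing.residue W).comp
      (X.presheaf.stalkSpecializes h0 ≫ θ₁).hom).codRestrict _ hV₁) b (IsUnit.of_mul_eq_one ⟨_, hzV₁⟩ (Subtype.ext ?_))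
    show IsLocalRing.residue W _ * IsLocalRing.residue W _ = 1
    rw [← map_mul, ← map_one (IsLocalRing.residue W)]
    congr 1
    exact Subtype.ext (congrArg (fun t : V => (t : Y.residueField w)) hz)⟩
  let hh : Spec (CommRingCat.of V) ⟶ X := Spec.map θ ≫ X.fromSpecStalk (f y)
  have hcp : hh (closedPoint V) = f y := by
    show (X.fromSpecStalk (f y)).base ((Spec.map θ).base (closedPoint V)) = f y
    rw [show (Spec.map θ).base (closedPoint V) = closedPoint (X.presheaf.stalk (f y)) from comap_closedPoint θ.hom]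
    exact X.fromSpecStalk_closedPoint
  have wV : Y.fromSpecResidueField w ≫ f =
      Spec.map (CommRingCat.ofHom (algebraMap V (Y.residueField w))) ≫ hh := by
    rw [Scheme.fromSpecResidueField, Category.assoc, ← Scheme.SpecMap_stalkMap_fromSpecStalk,
      ← Scheme.SpecMap_stalkSpecializes_fromSpecStalk h1, ← Scheme.SpecMap_stalkSpecializes_fromSpecStalk h0]
    simp only [hh, ← Spec.map_comp_assoc]
    rfl
  obtain ⟨l⟩ := ((Groth.Agent.S15344.result f).mp (Groth.Agent.S15346.result f hb)
    { R := V, K := Y.residueField w, i₁ := _, i₂ := hh, commSq := ⟨wV⟩ }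
    (exists_residue_lift f hh y hcp)).exists_lift
  let lV : Spec (CommRingCat.of V) ⟶ Y := l.l
  have hl : lV ≫ f = hh := l.fac_right
  let incl : CommRingCat.of V ⟶ CommRingCat.of W := CommRingCat.ofHom (Subring.inclusion hVW)
  have e : θ ≫ incl = X.presheaf.stalkSpecializes h0 ≫ θ₁ := rfl
  have e' : Spec.map incl ≫ lV ≫ f = Spec.map θ₁ ≫ X.fromSpecStalk a := by
    rw [hl, show hh = Spec.map θ ≫ X.fromSpecStalk (f y) from rfl, ← Spec.map_comp_assoc, e, Spec.map_comp,
      Category.assoc, Scheme.SpecMap_stalkSpecializes_fromSpecStalk]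
  refine ⟨lV ((Spec.map incl).base (closedPoint W)), ?_⟩
  have e2 := congrArg (fun q : Spec (CommRingCat.of W) ⟶ X => q.base (closedPoint W)) e'
  simp only [Scheme.Hom.comp_base, TopCat.comp_app] at e2
  rw [e2, show (Spec.map θ₁).base (closedPoint W) = closedPoint (X.presheaf.stalk a) from comap_closedPoint θ₁.hom]
  exact X.fromSpecStalk_closedPoint

theorem isImmersion_of_dvrLift {X Y : Scheme.{u}} [IsLocallyNoetherian X] (f : Y ⟶ X) [Mono f]
    [LocallyOfFinitePresentation f] [QuasiCompact f]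
    (hb : ∀ S : ValuativeCommSq f, IsDiscreteValuationRing S.R →
        (∃ l₀ : Spec (CommRingCat.of (IsLocalRing.ResidueField S.R)) ⟶ Y,
            l₀ ≫ f = Spec.map (CommRingCat.ofHom (IsLocalRing.residue S.R)) ≫ S.i₂) →
          S.commSq.HasLift) : IsImmersion f := by
  let O : Set X := Set.range f ∪ (closure (Set.range f))ᶜ
  have hloc : IsLocallyConstructible (Set.range f) := by
    rw [← Set.image_univ]
    exact f.isLocallyConstructible_image IsConstructible.univ.isLocallyConstructible
  have hO : IsOpen O := by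
    rw [isOpen_iff_forall_mem_open]
    intro x hx
    obtain ⟨_, ⟨W, hW, rfl⟩, hxW, -⟩ :=
      X.isBasis_affineOpens.exists_subset_of_mem_open (Set.mem_univ x) isOpen_univ
    haveI : IsNoetherianRing Γ(X, W) := IsLocallyNoetherian.component_noetherian ⟨W, hW⟩
    have hj := hW.fromSpec.isOpenEmbedding
    let T : Set (PrimeSpectrum Γ(X, W)) := hW.fromSpec ⁻¹' Set.range f
    have hT : IsConstructible T := by
      have h := hloc.preimage_of_isOpenEmbedding hj
      haveI : CompactSpace ↥(Spec Γ(X, W)) := inferInstance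
      exact h.isConstructible
    have hcl : hW.fromSpec ⁻¹' closure (Set.range f) = closure T :=
      hj.isOpenMap.preimage_closure_eq_closure_preimage hj.continuous _
    have hG : IsOpen (T ∪ (closure T)ᶜ) := by
      haveI : TopologicalSpace.NoetherianSpace (PrimeSpectrum Γ(X, W)) := inferInstance
      refine PrimeSpectrum.isOpen_of_stableUnderGeneralization_of_isConstructible ?_
        (hT.union (IsCompact.isConstructible (TopologicalSpace.NoetherianSpace.isCompact _) isClosed_closure.isOpen_compl))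
      intro b a hab hb'
      by_cases ha : a ∈ closure T
      swap
      · exact Or.inr ha
      rcases hb' with hb' | hb'
      swap
      · exact absurd (hab.mem_closed isClosed_closure ha) hb'
      obtain ⟨t, ⟨w, hw⟩, hta⟩ := exists_specializes_of_mem_closure hT ha
      obtain ⟨y, hy⟩ := hb'
      refine Or.inl (show hW.fromSpec a ∈ Set.range f from mem_range_of_between f hb w y _ ?_ ?_)
      · rw [hw]; exact hta.map hj.continuous
      · rw [hy]; exact hab.map hj.continuous
    refine ⟨hW.fromSpec '' (T ∪ (closure T)ᶜ), ?_, hj.isOpenMap _ hG, ?_⟩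
    · rintro _ ⟨a, ha | ha, rfl⟩
      · exact Or.inl ha
      · exact Or.inr fun h => ha (hcl.le h)
    · obtain ⟨a, ha⟩ : x ∈ Set.range hW.fromSpec := hW.range_fromSpec.ge hxW
      refine ⟨a, ?_, ha⟩
      rcases hx with hx | hx
      · exact Or.inl (show hW.fromSpec a ∈ Set.range f by rw [ha]; exact hx)
      · exact Or.inr fun h => hx (ha ▸ hcl.ge h)
  let U : X.Opens := ⟨O, hO⟩
  have hsub : Set.range f ⊆ Set.range U.ι := by
    rw [Scheme.Opens.range_ι]; exact Set.subset_union_left
  let f' : Y ⟶ U := IsOpenImmersion.lift U.ι f hsub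
  have hf' : f' ≫ U.ι = f := IsOpenImmersion.lift_fac _ _ _
  haveI : Mono (f' ≫ U.ι) := by rw [hf']; infer_instance
  haveI : Mono f' := mono_of_mono f' U.ι
  haveI : LocallyOfFiniteType (f' ≫ U.ι) := by rw [hf']; infer_instance
  haveI : LocallyOfFiniteType f' := locallyOfFiniteType_of_comp f' U.ι
  haveI : QuasiCompact (f' ≫ U.ι) := by rw [hf']; infer_instance
  haveI : QuasiCompact f' := QuasiCompact.of_comp f' U.ι
  have hdvr : Groth.Agent.Lead.DVR.DvrExist f' := by
    intro A _ _ _ x z w
    have w' : x ≫ f = Spec.map (CommRingCat.ofHom (algebraMap A (FractionRing A))) ≫ z ≫ U.ι := by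
      rw [← hf', reassoc_of% w]
    obtain ⟨y, hy⟩ : ∃ y, (z ≫ U.ι) (closedPoint A) = f y := by
      have hmem : (z ≫ U.ι) (closedPoint A) ∈ closure (Set.range f) := by
        refine (((IsLocalRing.specializes_closedPoint
          ((Spec.map (CommRingCat.ofHom (algebraMap A (FractionRing A)))).base (closedPoint (FractionRing A)))).map
            (z ≫ U.ι).continuous).mem_closed isClosed_closure (subset_closure ⟨x (closedPoint (FractionRing A)), ?_⟩))
        exact congrArg (fun q : Spec (CommRingCat.of (FractionRing A)) ⟶ X => q.base (closedPoint (FractionRing A))) w'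
      have hU : (z ≫ U.ι) (closedPoint A) ∈ O := (z (closedPoint A)).2
      rcases hU with ⟨y, hy⟩ | hU
      · exact ⟨y, hy.symm⟩
      · exact absurd hmem hU
    obtain ⟨l⟩ := (hb { R := A, K := FractionRing A, i₁ := x, i₂ := z ≫ U.ι, commSq := ⟨w'⟩ } inferInstance
      (exists_residue_lift f (z ≫ U.ι) y hy)).exists_lift
    let l' : Spec (CommRingCat.of A) ⟶ Y := l.l
    have hl1 : l' ≫ f = z ≫ U.ι := l.fac_right
    refine ⟨l', ?_, l.fac_left⟩
    rw [← cancel_mono U.ι, Category.assoc, hf']
    exact hl1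
  haveI : UniversallyClosed f' := hdvr.universallyClosed
  haveI : IsProper f' := {}
  haveI : IsClosedImmersion f' := (IsClosedImmersion.iff_isProper_and_mono f').mpr ⟨inferInstance, inferInstance⟩
  rw [← hf']
  infer_instance

end Groth.Agent.Lead.DVR.MonoVal
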