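import Groth.Agent.Lead.DVR.Extend

/-! Specializations on locally Noetherian schemes are realized by discrete valuation rings. -/

set_option autoImplicit false

universe u

open CategoryTheory AlgebraicGeometry

namespace Groth.Agent.Lead.DVR

theorem exists_dvr_point {X Y : Scheme.{u}} [IsLocallyNoetherian Y]
    (p : X ⟶ Y) [LocallyOfFiniteType p] (x : X) (y' : Y) (hsp : p.base x ⤳ y') (hne : y' ≠ p.base x) :
    ∃ (A : ValuationSubring (X.residueField x)) (h : Spec (CommRingCat.of A) ⟶ Y), IsDiscreteValuationRing A ∧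
      h.base (IsLocalRing.closedPoint A) = y' ∧
      Spec.map (CommRingCat.ofHom A.subtype) ≫ h = X.fromSpecResidueField x ≫ p := by
  classical
  let ψ : Y.presheaf.stalk y' ⟶ X.residueField x := Y.presheaf.stalkSpecializes hsp ≫ p.stalkMap x ≫ X.residue x
  let S := ψ.hom.range
  haveI : IsNoetherianRing S := isNoetherianRing_of_surjective _ _ ψ.hom.rangeRestrict ψ.hom.rangeRestrict_surjective
  haveI : IsLocalRing S := IsLocalRing.of_surjective' ψ.hom.rangeRestrict ψ.hom.rangeRestrict_surjective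
  obtain ⟨_, ⟨U, hU, rfl⟩, hyU, -⟩ :=
    Y.isBasis_affineOpens.exists_subset_of_mem_open (Set.mem_univ y') isOpen_univ
  have hpU : p.base x ∈ U := hsp.mem_open U.isOpen hyU
  obtain ⟨b, hb, hb'⟩ : ∃ b : Γ(Y, U), p.base x ∈ Y.basicOpen b ∧ y' ∉ Y.basicOpen b := by
    obtain ⟨W, hWo, hpW, hyW⟩ : ∃ W : Set Y, IsOpen W ∧ p.base x ∈ W ∧ y' ∉ W := by
      by_contra h
      push Not at h
      exact hne ((specializes_iff_forall_open.mpr h).antisymm hsp).eq
    obtain ⟨b, hbW, hb⟩ := hU.exists_basicOpen_le (V := ⟨W, hWo⟩) ⟨p.base x, hpW⟩ hpU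
    exact ⟨b, hb, fun h => hyW (hbW h)⟩
  have hψb : ψ (Y.presheaf.germ U y' hyU b) ≠ 0 := by
    have hu : IsUnit (Y.presheaf.germ U (p.base x) hpU b) := (Y.mem_basicOpen b (p.base x) hpU).mp hb
    have e : ψ (Y.presheaf.germ U y' hyU b) = (p.stalkMap x ≫ X.residue x) (Y.presheaf.germ U (p.base x) hpU b) := by
      show (p.stalkMap x ≫ X.residue x) (Y.presheaf.stalkSpecializes hsp (Y.presheaf.germ U y' hyU b)) = _
      rw [TopCat.Presheaf.germ_stalkSpecializes_apply]
    rw [e]
    exact (hu.map (p.stalkMap x ≫ X.residue x).hom).ne_zero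
  have hbm : (Y.presheaf.germ U y' hyU b) ∈ IsLocalRing.maximalIdeal (Y.presheaf.stalk y') :=
    (IsLocalRing.mem_maximalIdeal _).mpr fun h => hb' ((Y.mem_basicOpen b y' hyU).mpr h)
  have hS : ¬ IsField S := fun hf => by
    have h0 : ψ.hom.rangeRestrict (Y.presheaf.germ U y' hyU b) ≠ 0 := fun h => hψb (congrArg Subtype.val h)
    obtain ⟨⟨_, ⟨c, rfl⟩⟩, hc⟩ := hf.mul_inv_cancel h0
    have : ψ (Y.presheaf.germ U y' hyU b * c - 1) = 0 := by
      rw [map_sub, map_mul, map_one, sub_eq_zero]; exact congrArg Subtype.val hc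
    have hu : IsUnit (-(Y.presheaf.germ U y' hyU b * c - 1)) := by
      rw [neg_sub]
      exact IsLocalRing.isUnit_one_sub_self_of_mem_nonunits _ (Ideal.mul_mem_right c _ hbm)
    have h2 := (hu.map ψ.hom).ne_zero
    rw [map_neg, this, neg_zero] at h2
    exact h2 rfl
  have hEss := LocallyOfFiniteType.stalkMap p x
  letI := (p.stalkMap x).hom.toAlgebra
  obtain ⟨s, hs⟩ := (Algebra.essFiniteType_iff (Y.presheaf.stalk (p.base x)) (X.presheaf.stalk x)).mp hEss
  let t : Finset (X.residueField x) := s.image (X.residue x)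
  have htop : Subfield.closure (Set.range (algebraMap S (X.residueField x)) ∪ ↑t) = ⊤ := by
    set F := Subfield.closure (Set.range (algebraMap S (X.residueField x)) ∪ ↑t) with hF
    have hA : ∀ a : Y.presheaf.stalk y', ψ a ∈ F := fun a =>
      Subfield.subset_closure (Or.inl ⟨⟨_, ⟨a, rfl⟩⟩, rfl⟩)
    have hY : ∀ z : Y.presheaf.stalk (p.base x), X.residue x (p.stalkMap x z) ∈ F := fun z => by
      letI := Y.presheaf.algebra_section_stalk (⟨p.base x, hpU⟩ : U)
      haveI := hU.isLocalization_stalk ⟨p.base x, hpU⟩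
      obtain ⟨⟨a, c⟩, hac⟩ := IsLocalization.surj (hU.primeIdealOf ⟨p.base x, hpU⟩).asIdeal.primeCompl z
      have hc : IsUnit (Y.presheaf.germ U (p.base x) hpU c.1) :=
        IsLocalization.map_units (Y.presheaf.stalk (p.base x)) c
      have e : z * Y.presheaf.germ U (p.base x) hpU c.1 = Y.presheaf.germ U (p.base x) hpU a := hac
      have key : ∀ d, X.residue x (p.stalkMap x (Y.presheaf.germ U (p.base x) hpU d)) ∈ F := fun d => by
        have := hA (Y.presheaf.germ U y' hyU d)
        rw [show ψ (Y.presheaf.germ U y' hyU d) =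
          X.residue x (p.stalkMap x (Y.presheaf.stalkSpecializes hsp (Y.presheaf.germ U y' hyU d))) from rfl,
          TopCat.Presheaf.germ_stalkSpecializes_apply] at this
        exact this
      have h0 := ((hc.map (p.stalkMap x).hom).map (X.residue x).hom).ne_zero
      have h1 : X.residue x (p.stalkMap x z) = X.residue x (p.stalkMap x (Y.presheaf.germ U (p.base x) hpU a)) /
          X.residue x (p.stalkMap x (Y.presheaf.germ U (p.base x) hpU c.1)) := by
        rw [eq_div_iff h0, ← map_mul, ← map_mul, e]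
      rw [h1]
      exact div_mem (key a) (key _)
    have hadj : ∀ w ∈ Algebra.adjoin (Y.presheaf.stalk (p.base x)) (↑s : Set (X.presheaf.stalk x)),
        X.residue x w ∈ F := fun w hw => by
      induction hw using Algebra.adjoin_induction with
      | mem z hz => exact Subfield.subset_closure (Or.inr (Finset.mem_image_of_mem _ hz))
      | algebraMap r => exact hY r
      | add a b _ _ ha hb => rw [map_add]; exact add_mem ha hb
      | mul a b _ _ ha hb => rw [map_mul]; exact mul_mem ha hb
    refine eq_top_iff.mpr fun z _ => ?_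
    obtain ⟨w, rfl⟩ := X.residue_surjective x z
    obtain ⟨c, hc, hcu, hwc⟩ := hs w
    have h0 := (hcu.map (X.residue x).hom).ne_zero
    rw [show X.residue x w = X.residue x (w * c) / X.residue x c by rw [map_mul, mul_div_cancel_right₀ _ h0]]
    exact div_mem (hadj _ hwc) (hadj _ hc)
  obtain ⟨O, hO, hSO, hmO⟩ := exists_dvr S (X.residueField x) hS Subtype.val_injective t htop
  have hψO : ∀ a, ψ.hom a ∈ O.toSubring := fun a => hSO ⟨_, ⟨a, rfl⟩⟩
  let g : Y.presheaf.stalk y' ⟶ CommRingCat.of O := CommRingCat.ofHom (ψ.hom.codRestrict O.toSubring hψO)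
  haveI : IsLocalHom g.hom := ⟨fun a ha => by
    by_contra hna
    have h1 : ψ.hom.rangeRestrict a ∈ IsLocalRing.maximalIdeal S := (IsLocalRing.mem_maximalIdeal _).mpr fun h => by
      obtain ⟨⟨_, ⟨c, rfl⟩⟩, hc⟩ := h.exists_right_inv
      have he : ψ (a * c - 1) = 0 := by rw [map_sub, map_mul, map_one, sub_eq_zero]; exact congrArg Subtype.val hc
      have hu : IsUnit (-(a * c - 1)) := by
        rw [neg_sub]
        exact IsLocalRing.isUnit_one_sub_self_of_mem_nonunits _
          (Ideal.mul_mem_right c _ ((IsLocalRing.mem_maximalIdeal a).mpr hna))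
      have h2 := (hu.map ψ.hom).ne_zero
      rw [map_neg, he, neg_zero] at h2
      exact h2 rfl
    exact (IsLocalRing.mem_maximalIdeal _).mp ((O.valuation_lt_one_iff (g.hom a)).mpr (hmO _ h1)) ha⟩
  refine ⟨O, Spec.map g ≫ Y.fromSpecStalk y', hO, ?_, ?_⟩
  · show (Y.fromSpecStalk y').base ((Spec.map g).base (IsLocalRing.closedPoint O)) = y'
    rw [show (Spec.map g).base (IsLocalRing.closedPoint O) = IsLocalRing.closedPoint (Y.presheaf.stalk y') from
      IsLocalRing.comap_closedPoint g.hom, Scheme.fromSpecStalk_closedPoint]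
  · rw [Scheme.fromSpecResidueField, Category.assoc, ← Scheme.SpecMap_stalkMap_fromSpecStalk,
      ← Scheme.SpecMap_stalkSpecializes_fromSpecStalk hsp]
    simp_rw [← Spec.map_comp_assoc]
    rfl

end Groth.Agent.Lead.DVR
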