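import Groth.Agent.Lead.DVR.Nhd

/-! Properness over a neighbourhood of a point from discrete valuation rings centred at it. -/

set_option autoImplicit false
set_option backward.isDefEq.respectTransparency false

universe u

open CategoryTheory CategoryTheory.Limits AlgebraicGeometry IsLocalRing

namespace Groth.Agent.Lead.DVR

variable {X S : Scheme.{u}} (f : X ⟶ S)

theorem finite_generic [IsLocallyNoetherian S] [LocallyOfFiniteType f] [QuasiCompact f] {U : S.Opens} (hU : IsAffineOpen U) :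
    {η : X | f η ∈ U ∧ closure {η} ∈ irreducibleComponents (X : Type u)}.Finite := by
  haveI : IsLocallyNoetherian X := LocallyOfFiniteType.isLocallyNoetherian f
  obtain ⟨s, hs, hcov⟩ := isCompact_iff_finite_and_eq_biUnion_affineOpens.mp (f.isCompact_preimage hU.isCompact)
  refine Set.Finite.subset (hs.biUnion fun V _ => ?_ : (⋃ V ∈ s, {η | η ∈ V.1 ∧ closure {η} ∈ irreducibleComponents (X : Type u)}).Finite) ?_
  · haveI : IsNoetherianRing Γ(X, V.1) := IsLocallyNoetherian.component_noetherian V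
    refine (((minimalPrimes.finite_of_isNoetherianRing Γ(X, V.1)).preimage
      (fun a _ b _ e => PrimeSpectrum.ext e : Set.InjOn PrimeSpectrum.asIdeal _)).image V.2.fromSpec).subset ?_
    rintro η ⟨hηV, hη⟩
    obtain ⟨m, hm⟩ : ∃ m, V.2.fromSpec m = η := V.2.range_fromSpec.ge hηV
    refine ⟨m, ⟨⟨m.isPrime, bot_le⟩, fun q hq hle => ?_⟩, hm⟩
    have hs : V.2.fromSpec (⟨q, hq.1⟩ : PrimeSpectrum _) ⤳ η :=
      hm ▸ ((PrimeSpectrum.le_iff_specializes ⟨q, hq.1⟩ m).mp hle).map V.2.fromSpec.continuous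
    have h2 := hη.2 isIrreducible_singleton.closure
      (closure_minimal (Set.singleton_subset_iff.mpr hs.mem_closure) isClosed_closure)
    have he := (hs.antisymm (specializes_iff_mem_closure.mpr (h2 (subset_closure rfl)))).eq
    rw [← hm] at he
    rw [← V.2.fromSpec.isOpenEmbedding.injective he]
  · rintro η ⟨hη, hη'⟩
    have h : η ∈ f ⁻¹ᵁ U := hη
    rw [hcov] at h
    simp only [TopologicalSpace.Opens.mem_iSup] at h
    obtain ⟨V, hV, hηV⟩ := h
    exact Set.mem_biUnion hV ⟨hηV, hη'⟩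

theorem good_restrict {η : X} {U : S.Opens} (h : GoodAt f η (· ∈ U)) (η' : (f ⁻¹ᵁ U).toScheme)
    (e' : (f ⁻¹ᵁ U).ι η' = η) : Good (f ∣_ U) η' := by
  subst e'
  intro A hA y hy
  haveI := hA
  let e := (f ⁻¹ᵁ U).ι.residueFieldMap η'
  have he : Function.Bijective e := ConcreteCategory.bijective_of_isIso e
  let A₀ : ValuationSubring (X.residueField ((f ⁻¹ᵁ U).ι η')) := A.comap e.hom
  let toA : A₀ →+* A := (e.hom.comp A₀.subtype).codRestrict A.toSubring fun a => a.2
  have hbij : Function.Bijective toA := by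
    refine ⟨fun a b h => Subtype.ext (he.1 (congrArg Subtype.val h)), fun a => ?_⟩
    obtain ⟨b, hb⟩ := he.2 a
    exact ⟨⟨b, show e b ∈ A by rw [hb]; exact a.2⟩, Subtype.ext hb⟩
  let r := RingEquiv.ofBijective toA hbij
  haveI : IsDiscreteValuationRing A₀ := IsDiscreteValuationRing.RingEquivClass.isDiscreteValuationRing r.symm
  let i : CommRingCat.of A₀ ⟶ CommRingCat.of A := CommRingCat.ofHom r.toRingHom
  let i' : CommRingCat.of A ⟶ CommRingCat.of A₀ := CommRingCat.ofHom r.symm.toRingHom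
  have hii : i' ≫ i = 𝟙 _ := CommRingCat.hom_ext (RingHom.ext fun a => r.apply_symm_apply a)
  have hii' : i ≫ i' = 𝟙 _ := CommRingCat.hom_ext (RingHom.ext fun a => r.symm_apply_apply a)
  have hie : i ≫ CommRingCat.ofHom A.subtype = CommRingCat.ofHom A₀.subtype ≫ e := rfl
  have hi'e : CommRingCat.ofHom A₀.subtype = i ≫ CommRingCat.ofHom A.subtype ≫ inv e := by
    rw [reassoc_of% hie, IsIso.hom_inv_id, Category.comp_id]
  obtain ⟨l, hl, hl'⟩ := h A₀ inferInstance (Spec.map i' ≫ y ≫ U.ι) (by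
    rw [Scheme.Hom.comp_apply, Scheme.Hom.comp_apply]
    exact (y ((Spec.map i') (closedPoint A₀))).2) (by
    rw [hi'e, Spec.map_comp, Spec.map_comp, Category.assoc, Category.assoc, ← Spec.map_comp_assoc i', hii, Spec.map_id,
      Category.id_comp, reassoc_of% hy, morphismRestrict_ι, ← Scheme.Hom.SpecMap_residueFieldMap_fromSpecResidueField_assoc,
      ← Spec.map_comp_assoc]
    simp only [e, IsIso.hom_inv_id, Spec.map_id]
    exact Category.id_comp _)
  have hr : Set.range (Spec.map i ≫ l) ⊆ (f ⁻¹ᵁ U : X.Opens) := by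
    rintro _ ⟨q, rfl⟩
    show ((Spec.map i ≫ l) ≫ f) q ∈ U
    rw [Category.assoc, hl, ← Spec.map_comp_assoc, hii, Spec.map_id, Category.id_comp, Scheme.Hom.comp_apply]
    exact (y q).2
  let l₁ := IsOpenImmersion.lift (f ⁻¹ᵁ U).ι (Spec.map i ≫ l) (by rwa [Scheme.Opens.range_ι])
  refine ⟨l₁, ?_, ?_⟩
  · rw [← cancel_mono U.ι, Category.assoc, morphismRestrict_ι, IsOpenImmersion.lift_fac_assoc, Category.assoc, hl,
      ← Spec.map_comp_assoc, hii, Spec.map_id, Category.id_comp]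
  · rw [← cancel_mono (f ⁻¹ᵁ U).ι, Category.assoc, IsOpenImmersion.lift_fac, ← Spec.map_comp_assoc, hie, Spec.map_comp,
      Category.assoc, hl', Scheme.Hom.SpecMap_residueFieldMap_fromSpecResidueField]

theorem exists_isProper_nhd [IsLocallyNoetherian S] [LocallyOfFiniteType f] [QuasiCompact f] [IsSeparated f] (y₀ : S)
    (h : ∀ η : X, closure {η} ∈ irreducibleComponents (X : Type u) → GoodAt f η (· = y₀)) :
    ∃ U : S.Opens, y₀ ∈ U ∧ IsProper (f ∣_ U) := by
  classical
  obtain ⟨_, ⟨U₀, hU₀, rfl⟩, hyU, -⟩ :=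
    S.isBasis_affineOpens.exists_subset_of_mem_open (Set.mem_univ y₀) isOpen_univ
  have hfin := finite_generic f hU₀
  have hn : ∀ η : hfin.toFinset, ∃ U : S.Opens, y₀ ∈ U ∧ GoodAt f η.1 (· ∈ U) := fun η =>
    exists_nhd_goodAt f η.1 y₀ (h _ ((hfin.mem_toFinset.mp η.2).2))
  choose U hyUη hgood using hn
  let V : S.Opens := U₀ ⊓ Finset.univ.inf U
  have hyV : y₀ ∈ V := by
    refine ⟨hyU, ?_⟩
    have : ∀ t : Finset hfin.toFinset, y₀ ∈ t.inf U := fun t => by
      induction t using Finset.induction with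
      | empty => simp
      | insert a t _ ih => rw [Finset.inf_insert]; exact ⟨hyUη a, ih⟩
    exact this _
  haveI : IsLocallyNoetherian V.toScheme := inferInstance
  haveI : QuasiCompact (f ∣_ V) := inferInstance
  haveI : IsSeparated (f ∣_ V) := inferInstance
  haveI : UniversallyClosed (f ∣_ V) := universallyClosed_of_good (f ∣_ V) fun z => by
    obtain ⟨η, hη, hz⟩ := exists_generic_specializes ((f ⁻¹ᵁ V).ι z)
    have hηV : η ∈ f ⁻¹ᵁ V := hz.mem_open (f ⁻¹ᵁ V).isOpen z.2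
    refine ⟨(⟨η, hηV⟩ : (f ⁻¹ᵁ V).toScheme), ?_, ?_⟩
    · exact (f ⁻¹ᵁ V).ι.isOpenEmbedding.isInducing.specializes_iff.mp hz
    · have hηU₀ : η ∈ hfin.toFinset := hfin.mem_toFinset.mpr ⟨hηV.1, hη⟩
      have hVle : V ≤ U ⟨η, hηU₀⟩ := inf_le_right.trans (Finset.inf_le (Finset.mem_univ _))
      exact good_restrict f (η := η) (fun A hA y hy w => hgood ⟨η, hηU₀⟩ A hA y (hVle hy) w) _ rfl
  exact ⟨V, hyV, ⟨⟩⟩

end Groth.Agent.Lead.DVR
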