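import Groth.Agent.Lead.DVR.Centre
import Groth.Agent.Lead.DVR.MonoVal

/-! Quasi-compactness from the valuative criterion. -/

set_option autoImplicit false

universe u

open CategoryTheory CategoryTheory.Limits AlgebraicGeometry IsLocalRing

namespace Groth.Agent.Lead.DVR

/-- compactness of the space of valuation rings containing a given set -/
theorem exists_finset_cover {K : Type u} [Field K] (S₀ : Set K) {ι : Type*} (g : ι → Finset K)
    (h : ∀ V : ValuationSubring K, (∀ x ∈ S₀, x ∈ V) → ∃ i, ∀ b ∈ g i, b ∈ V) :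
    ∃ F : Finset ι, ∀ V : ValuationSubring K, (∀ x ∈ S₀, x ∈ V) → ∃ i ∈ F, ∀ b ∈ g i, b ∈ V := by
  classical
  by_contra hF
  push Not at hF
  choose V hV hVbad using hF
  haveI : (Filter.atTop : Filter (Finset ι)).NeBot := Filter.atTop_neBot
  let U : Ultrafilter (Finset ι) := Ultrafilter.of Filter.atTop
  let W : ValuationSubring K :=
    { carrier := {x | ∀ᶠ F in (U : Filter (Finset ι)), x ∈ V F}
      mul_mem' := fun ha hb => (ha.and hb).mono fun F h => mul_mem h.1 h.2
      one_mem' := Filter.Eventually.of_forall fun F => one_mem _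
      add_mem' := fun ha hb => (ha.and hb).mono fun F h => add_mem h.1 h.2
      zero_mem' := Filter.Eventually.of_forall fun F => zero_mem _
      neg_mem' := fun ha => ha.mono fun F h => neg_mem h
      mem_or_inv_mem' := fun x => Ultrafilter.eventually_or.mp
        (Filter.Eventually.of_forall fun F => (V F).mem_or_inv_mem x) }
  obtain ⟨i, hi⟩ := h W fun x hx => Filter.Eventually.of_forall fun F => hV F x hx
  have h1 : ∀ᶠ F in (U : Filter (Finset ι)), ∀ b ∈ g i, b ∈ V F := (Filter.eventually_all_finset (g i)).mpr hi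
  have h2 : ∀ᶠ F in (U : Filter (Finset ι)), i ∈ F :=
    Filter.Eventually.filter_mono (Ultrafilter.of_le _) ((Filter.eventually_ge_atTop {i}).mono fun F hF => Finset.singleton_subset_iff.mp hF)
  obtain ⟨F, hF1, hF2⟩ := (h1.and h2).exists
  obtain ⟨b, hb, hb'⟩ := hVbad F i hF2
  exact hb' (hF1 b hb)

variable {X Y : Scheme.{u}} (f : X ⟶ Y)

theorem exists_finite_affine_cover_closure [LocallyOfFiniteType f] (hf : ValuativeCriterion f) {W : Y.Opens}
    (hW : IsAffineOpen W) (η : X) :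
    ∃ s : Set X.affineOpens, s.Finite ∧ (∀ V ∈ s, (V : X.Opens) ≤ f ⁻¹ᵁ W) ∧
      ∀ z, η ⤳ z → z ∈ f ⁻¹ᵁ W → ∃ V ∈ s, z ∈ (V : X.Opens) := by
  classical
  by_cases hηW : η ∈ f ⁻¹ᵁ W
  swap
  · exact ⟨∅, Set.finite_empty, by simp, fun z hz hzW => absurd (hz.mem_open (f ⁻¹ᵁ W).isOpen hzW) hηW⟩
  let ρ := f.app W ≫ toRes (V := f ⁻¹ᵁ W) hηW
  let ι := {V : X.affineOpens // (V : X.Opens) ≤ f ⁻¹ᵁ W ∧ η ∈ (V : X.Opens)}
  have hρ : ∀ V : ι, f.appLE W V.1 V.2.1 ≫ toRes V.2.2 = ρ := fun V => by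
    simp only [ρ, toRes, Scheme.Hom.appLE, Category.assoc]
    rw [X.presheaf.germ_res_assoc]
  have hgen : ∀ V : ι, ∃ g : Finset (X.residueField η), ∀ C : ValuationSubring (X.residueField η),
      (∀ a, ρ a ∈ C) → ((∀ c, toRes V.2.2 c ∈ C) ↔ ∀ b ∈ g, b ∈ C) := fun V => by
    letI := (f.appLE W V.1 V.2.1).hom.toAlgebra
    haveI : Algebra.FiniteType Γ(Y, W) Γ(X, (V.1 : X.Opens)) :=
      RingHom.finiteType_algebraMap.mp (HasRingHomProperty.appLE @LocallyOfFiniteType f inferInstance ⟨W, hW⟩ V.1 V.2.1)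
    obtain ⟨g, hg⟩ := (‹Algebra.FiniteType Γ(Y, W) Γ(X, (V.1 : X.Opens))›).out
    refine ⟨g.image (toRes V.2.2), fun C hC => ⟨fun h b hb => ?_, fun h c => ?_⟩⟩
    · obtain ⟨c, -, rfl⟩ := Finset.mem_image.mp hb
      exact h c
    · have hc : c ∈ Algebra.adjoin Γ(Y, W) (g : Set Γ(X, (V.1 : X.Opens))) := by rw [hg]; trivial
      induction hc using Algebra.adjoin_induction with
      | mem z hz => exact h _ (Finset.mem_image_of_mem _ hz)
      | algebraMap r => exact (ConcreteCategory.congr_hom (hρ V) r).symm ▸ hC r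
      | add a b _ _ ha hb => rw [map_add]; exact add_mem ha hb
      | mul a b _ _ ha hb => rw [map_mul]; exact mul_mem ha hb
  choose gens hgens using hgen
  -- a lift determined by a chart
  have chart : ∀ (C : ValuationSubring (X.residueField η)) (hC : ∀ a, ρ a ∈ C) (V : ι)
      (hV : ∀ c, toRes V.2.2 c ∈ C) (l : Spec (CommRingCat.of C) ⟶ X)
      (_ : l ≫ f = Spec.map (CommRingCat.ofHom (ρ.hom.codRestrict C.toSubring hC)) ≫ hW.fromSpec)
      (_ : Spec.map (CommRingCat.ofHom (algebraMap C (X.residueField η))) ≫ l = X.fromSpecResidueField η),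
      l (closedPoint C) ∈ (V.1 : X.Opens) := by
    intro C hC V hV l hl1 hl2
    let a : Γ(X, (V.1 : X.Opens)) ⟶ CommRingCat.of C := CommRingCat.ofHom ((toRes V.2.2).hom.codRestrict C.toSubring hV)
    have hl1' : (Spec.map a ≫ V.1.2.fromSpec) ≫ f = Spec.map (CommRingCat.ofHom (ρ.hom.codRestrict C.toSubring hC)) ≫ hW.fromSpec := by
      rw [Category.assoc, ← hW.SpecMap_appLE_fromSpec f V.1.2 V.2.1, ← Spec.map_comp_assoc]
      congr 2
      exact CommRingCat.hom_ext (RingHom.ext fun r => Subtype.ext (ConcreteCategory.congr_hom (hρ V) r))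
    have hl2' : Spec.map (CommRingCat.ofHom (algebraMap C (X.residueField η))) ≫ Spec.map a ≫ V.1.2.fromSpec =
        X.fromSpecResidueField η := by
      rw [← SpecMap_toRes V.1.2 V.2.2, ← Spec.map_comp_assoc]
      rfl
    let S : ValuativeCommSq f :=
      { R := C, K := X.residueField η, i₁ := X.fromSpecResidueField η, i₂ := _, commSq := ⟨by rw [← hl2, Category.assoc, hl1]⟩ }
    haveI := hf.uniqueness S
    have e : l = Spec.map a ≫ V.1.2.fromSpec := congrArg CommSq.LiftStruct.l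
      (Subsingleton.elim (⟨l, hl2, hl1⟩ : S.commSq.LiftStruct) ⟨_, hl2', hl1'⟩)
    rw [e, Scheme.Hom.comp_apply]
    exact V.1.2.range_fromSpec.le ⟨_, rfl⟩
  have lift : ∀ (C : ValuationSubring (X.residueField η)) (hC : ∀ a, ρ a ∈ C), ∃ l : Spec (CommRingCat.of C) ⟶ X,
      l ≫ f = Spec.map (CommRingCat.ofHom (ρ.hom.codRestrict C.toSubring hC)) ≫ hW.fromSpec ∧
      Spec.map (CommRingCat.ofHom (algebraMap C (X.residueField η))) ≫ l = X.fromSpecResidueField η := by
    intro C hC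
    have w : X.fromSpecResidueField η ≫ f = Spec.map (CommRingCat.ofHom (algebraMap C (X.residueField η))) ≫
        Spec.map (CommRingCat.ofHom (ρ.hom.codRestrict C.toSubring hC)) ≫ hW.fromSpec := by
      rw [← Spec.map_comp_assoc]
      change _ = Spec.map ρ ≫ hW.fromSpec
      obtain ⟨_, ⟨V, hV, rfl⟩, hηV, hVW⟩ := X.isBasis_affineOpens.exists_subset_of_mem_open hηW (f ⁻¹ᵁ W).isOpen
      rw [← hρ ⟨⟨V, hV⟩, hVW, hηV⟩, Spec.map_comp, Category.assoc, hW.SpecMap_appLE_fromSpec f hV hVW,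
        ← Category.assoc, SpecMap_toRes hV hηV]
    obtain ⟨l⟩ := ((hf.existence) { R := C, K := X.residueField η, i₁ := _, i₂ := _, commSq := ⟨w⟩ }).exists_lift
    exact ⟨l.l, l.fac_right, l.fac_left⟩
  obtain ⟨F, hF⟩ := exists_finset_cover (Set.range ρ) gens fun C hC => by
    have hC' : ∀ a, ρ a ∈ C := fun a => hC _ ⟨a, rfl⟩
    obtain ⟨l, hl1, hl2⟩ := lift C hC'
    have hlW : l (closedPoint C) ∈ f ⁻¹ᵁ W := by
      show f (l (closedPoint C)) ∈ W
      rw [← Scheme.Hom.comp_apply, hl1, Scheme.Hom.comp_apply]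
      exact hW.range_fromSpec.le ⟨_, rfl⟩
    obtain ⟨_, ⟨V, hV, rfl⟩, hzV, hVW⟩ := X.isBasis_affineOpens.exists_subset_of_mem_open hlW (f ⁻¹ᵁ W).isOpen
    have hηV : η ∈ V := by
      refine Specializes.mem_open ?_ V.isOpen hzV
      refine (specializes_of_eq ?_).trans ((specializes_closedPoint
        ((Spec.map (CommRingCat.ofHom (algebraMap C (X.residueField η)))).base (closedPoint _))).map l.continuous)
      exact (Scheme.fromSpecResidueField_apply η (closedPoint _)).symm.trans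
        (congrArg (fun q : Spec (X.residueField η) ⟶ X => q.base (closedPoint _)) hl2).symm
    obtain ⟨a, ha⟩ := exists_chart hV l (range_subset_of_closedPoint l hzV)
    have ha' : a ≫ CommRingCat.ofHom C.subtype = toRes hηV := chart_ext hV (by
      rw [Spec.map_comp, Category.assoc, ha, SpecMap_toRes hV hηV]
      exact hl2)
    refine ⟨⟨⟨V, hV⟩, hVW, hηV⟩, (hgens _ C hC').mp fun c => ?_⟩
    show toRes hηV c ∈ C
    rw [← ha']
    exact (a c).2
  refine ⟨(fun V : ι => V.1) '' (F : Set ι), F.finite_toSet.image _, ?_, fun z hz hzW => ?_⟩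
  · rintro _ ⟨V, -, rfl⟩; exact V.2.1
  let ψ : X.presheaf.stalk z ⟶ X.residueField η := X.presheaf.stalkSpecializes hz ≫ X.residue η
  obtain ⟨C, hCψ, hCloc⟩ := exists_factor_valuationRing ψ.hom
  let θ : X.presheaf.stalk z ⟶ CommRingCat.of C := CommRingCat.ofHom (ψ.hom.codRestrict _ hCψ)
  haveI : IsLocalHom θ.hom := hCloc
  obtain ⟨_, ⟨V₀, hV₀, rfl⟩, hzV₀, hV₀W⟩ := X.isBasis_affineOpens.exists_subset_of_mem_open hzW (f ⁻¹ᵁ W).isOpen
  have hηV₀ : η ∈ V₀ := hz.mem_open V₀.isOpen hzV₀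
  have hρψ : ρ = f.appLE W V₀ hV₀W ≫ X.presheaf.germ V₀ z hzV₀ ≫ ψ := by
    rw [← hρ ⟨⟨V₀, hV₀⟩, hV₀W, hηV₀⟩]
    simp only [ψ, toRes, TopCat.Presheaf.germ_stalkSpecializes_assoc]
  have hC : ∀ a, ρ a ∈ C := fun a => by rw [hρψ]; exact hCψ _
  obtain ⟨i, hiF, hi⟩ := hF C fun x ⟨a, ha⟩ => ha ▸ hC a
  refine ⟨i.1, ⟨i, hiF, rfl⟩, ?_⟩
  have hcp : (Spec.map θ ≫ X.fromSpecStalk z) (closedPoint C) = z := by
    show (X.fromSpecStalk z).base ((Spec.map θ).base (closedPoint C)) = z
    rw [show (Spec.map θ).base (closedPoint C) = closedPoint (X.presheaf.stalk z) from comap_closedPoint θ.hom]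
    exact X.fromSpecStalk_closedPoint
  have h2 : Spec.map (CommRingCat.ofHom (algebraMap C (X.residueField η))) ≫ Spec.map θ ≫ X.fromSpecStalk z =
      X.fromSpecResidueField η := by
    rw [← Spec.map_comp_assoc]
    change Spec.map (X.presheaf.stalkSpecializes hz ≫ X.residue η) ≫ X.fromSpecStalk z = _
    rw [Spec.map_comp, Category.assoc, Scheme.SpecMap_stalkSpecializes_fromSpecStalk]
    rfl
  have h1 : (Spec.map θ ≫ X.fromSpecStalk z) ≫ f =
      Spec.map (CommRingCat.ofHom (ρ.hom.codRestrict C.toSubring hC)) ≫ hW.fromSpec := by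
    rw [← hV₀.fromSpecStalk_eq_fromSpecStalk hzV₀, IsAffineOpen.fromSpecStalk]
    simp only [Category.assoc]
    rw [← hW.SpecMap_appLE_fromSpec f hV₀ hV₀W]
    simp only [← Spec.map_comp_assoc]
    congr 2
    exact CommRingCat.hom_ext (RingHom.ext fun r => Subtype.ext (ConcreteCategory.congr_hom hρψ r).symm)
  have := chart C hC i ((hgens i C hC).mpr hi) (Spec.map θ ≫ X.fromSpecStalk z) h1 h2
  rwa [hcp] at this

theorem quasiCompact_of_valuativeCriterion [LocallyOfFiniteType f] (hf : ValuativeCriterion f)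
    (hX : (irreducibleComponents ↥X).Finite) : QuasiCompact f := by
  classical
  rw [quasiCompact_iff_forall_isAffineOpen]
  intro W hW
  choose s hs hle hcov using exists_finite_affine_cover_closure f hf hW
  let H : Set X := {η | closure {η} ∈ irreducibleComponents (X : Type u)}
  have hH : H.Finite := Set.Finite.of_finite_image (f := fun η => closure ({η} : Set X))
    (hX.subset (by rintro _ ⟨η, hη, rfl⟩; exact hη)) fun a _ b _ h => IsGenericPoint.eq (h : IsGenericPoint a (closure ({b} : Set X))) rfl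
  have e : (f ⁻¹ᵁ W : Set X) = ⋃ η ∈ H, ⋃ V ∈ s η, ((V : X.Opens) : Set X) := by
    refine subset_antisymm (fun z hz => ?_) ?_
    · obtain ⟨η', hη'⟩ := QuasiSober.sober (isIrreducible_irreducibleComponent (x := z)) isClosed_irreducibleComponent
      obtain ⟨V, hV, hzV⟩ := hcov η' z (hη'.specializes mem_irreducibleComponent) hz
      exact Set.mem_biUnion (show η' ∈ H by show closure ({η'} : Set X) ∈ irreducibleComponents (X : Type u); rw [hη'.def]; exact irreducibleComponent_mem_irreducibleComponents z)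
        (Set.mem_biUnion hV hzV)
    · exact Set.iUnion₂_subset fun η _ => Set.iUnion₂_subset fun V hV => hle η V hV
  show IsCompact (f ⁻¹ᵁ W : Set X)
  rw [e]
  exact hH.isCompact_biUnion fun η _ => (hs η).isCompact_biUnion fun V _ => V.2.isCompact

end Groth.Agent.Lead.DVR
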